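import Groth.Prelude.Def_NoriFGS
import Groth.Agent.Lib.TorsPush.Main
import Groth.Agent.Lib.TorsorSch.Basic
import Groth.Agent.Lib.TorsorSch.Descent
import Groth.Agent.Lib.RedPts.BC
import Groth.Agent.Lib.GrpQ.Image

/-!
# Pro-finite groups, their torsors, and push-forwards along homomorphisms to finite groups
-/

set_option autoImplicit false
set_option linter.style.haveILetI false

noncomputable section

universe u

open CategoryTheory CategoryTheory.Limits MonoidalCategory CartesianMonoidalCategory AlgebraicGeometry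
open scoped MonObj GrpObj

namespace Groth.Agent.Lib.NoriFGS

open _root_.NoriFGS

variable {k : Type u} [Field k]

theorem flat_hom (G : Over (Spec (CommRingCat.of k))) : Flat G.hom :=
  GrpSch.flat_of_isField (Field.toIsField k) G.hom

theorem surjective_hom (G : Over (Spec (CommRingCat.of k))) [GrpObj G] : Surjective G.hom :=
  ⟨fun s => ⟨(η[G]).left s, congr($(Over.w η[G]) s)⟩⟩

theorem isAffineHom_of_proFinite {πN : Over (Spec (CommRingCat.of k))} [GrpObj πN] (h : IsProFinite πN) :
    IsAffineHom πN.hom := by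
  obtain ⟨P⟩ := h
  letI := P.cat
  haveI := P.cofiltered
  haveI := IsCofiltered.isConnected P.I
  haveI : ∀ i, IsAffineHom (P.D.obj i).hom := fun i => by
    haveI := P.finite i
    infer_instance
  haveI : ∀ i, IsAffine (P.D.obj i).left := fun i => isAffine_of_isAffineHom (P.D.obj i).hom
  let D' := P.D ⋙ Over.forget _
  let c : Cone D' := (Over.forget _).mapCone (Cone.mk πN P.π)
  have hc : IsLimit c := isLimitOfPreserves (Over.forget _) P.isLimit
  haveI : ∀ i, IsAffine (D'.obj i) := fun i => inferInstanceAs (IsAffine (P.D.obj i).left)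
  haveI : ∀ {i j : P.I} (f : i ⟶ j), IsAffineHom (D'.map f) := fun f => inferInstance
  obtain ⟨i₀⟩ := (inferInstance : Nonempty P.I)
  have := isAffineHom_π_app D' c hc i₀
  have : IsAffine c.pt := isAffine_of_isAffineHom (c.π.app i₀)
  have : IsAffine πN.left := this
  infer_instance

variable {X : Scheme.{u}} [X.Over (Spec (CommRingCat.of k))]

theorem torsor_props {G : Over (Spec (CommRingCat.of k))} [GrpObj G] [IsAffineHom G.hom] {T : Over X}
    {b : AlgGrp.Action (Red.bc (X ↘ Spec (CommRingCat.of k)) G) T}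
    (hb : NonAbH1.IsTorsorFor Scheme.fpqcPrecoverage b) :
    IsAffineHom T.hom ∧ Flat T.hom ∧ Surjective T.hom ∧ Presieve.singleton T.hom ∈ Scheme.fpqcPrecoverage X := by
  have h₁ : IsAffineHom T.hom := TorsorSch.Basic.of_hom (P := @IsAffineHom) hb
    (MorphismProperty.pullback_snd (P := @IsAffineHom) _ (X ↘ Spec (CommRingCat.of k)) inferInstance)
  have h₂ : Flat T.hom := TorsorSch.Basic.of_hom (P := @Flat) hb
    (MorphismProperty.pullback_snd (P := @Flat) _ (X ↘ Spec (CommRingCat.of k)) (flat_hom G))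
  have h₃ : Surjective T.hom := TorsorSch.Basic.of_hom (P := @Surjective) hb
    (MorphismProperty.pullback_snd (P := @Surjective) _ (X ↘ Spec (CommRingCat.of k)) (surjective_hom G))
  exact ⟨h₁, h₂, h₃, T.hom.singleton_mem_fpqcPrecoverage⟩

/-- Push-forward of a pointed torsor along a homomorphism to a finite group. -/
theorem exists_push {πN G : Over (Spec (CommRingCat.of k))} [GrpObj πN] [IsAffineHom πN.hom] [GrpObj G]
    [IsFinite G.hom] (φ : πN ⟶ G) [IsMonHom φ] {P : Over X}
    {a : AlgGrp.Action (Red.bc (X ↘ Spec (CommRingCat.of k)) πN) P}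
    (ha : NonAbH1.IsTorsorFor Scheme.fpqcPrecoverage a) (p : Spec (CommRingCat.of k) ⟶ P.left) :
    ∃ (T : Over X) (b : AlgGrp.Action (Red.bc (X ↘ Spec (CommRingCat.of k)) G) T) (f : P ⟶ T),
      NonAbH1.IsTorsorFor Scheme.fpqcPrecoverage b ∧ IsPtTorsorHom a p b (p ≫ f.left) φ f := by
  haveI : IsAffineHom (Red.bc (X ↘ Spec (CommRingCat.of k)) G).hom :=
    MorphismProperty.pullback_snd (P := @IsAffineHom) _ (X ↘ Spec (CommRingCat.of k)) inferInstance
  obtain ⟨T, b, f, hb, -, he⟩ := TorsPush.exists_pushforward a ha.1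
    ((Over.pullback (X ↘ Spec (CommRingCat.of k))).map φ) (le_refl _) (torsor_props ha).2.2.2
  refine ⟨T, b, f, hb, ?_, rfl⟩
  show a.act ≫ f = _
  rw [he]
  refine AlgGrp.Action.hom_ext_lift₂ ?_
  intro Z g w
  rw [comp_lift_assoc, lift_fst_assoc, lift_snd_assoc, lift_whiskerLeft_assoc, AlgGrp.Action.lift_restrict_act]

/-- Composition of morphisms of pointed torsors. -/
theorem isPtTorsorHom_comp {G G' G'' : Over (Spec (CommRingCat.of k))} [GrpObj G] [GrpObj G'] [GrpObj G'']
    {T T' T'' : Over X} {b : AlgGrp.Action (Red.bc (X ↘ Spec (CommRingCat.of k)) G) T}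
    {b' : AlgGrp.Action (Red.bc (X ↘ Spec (CommRingCat.of k)) G') T'}
    {b'' : AlgGrp.Action (Red.bc (X ↘ Spec (CommRingCat.of k)) G'') T''}
    {t : Spec (CommRingCat.of k) ⟶ T.left} {t' : Spec (CommRingCat.of k) ⟶ T'.left}
    {t'' : Spec (CommRingCat.of k) ⟶ T''.left}
    {φ : G ⟶ G'} {ψ : G' ⟶ G''} [IsMonHom φ] [IsMonHom ψ] {f : T ⟶ T'} {g : T' ⟶ T''}
    (hf : IsPtTorsorHom b t b' t' φ f) (hg : IsPtTorsorHom b' t' b'' t'' ψ g) :
    IsPtTorsorHom b t b'' t'' (φ ≫ ψ) (f ≫ g) := by
  refine ⟨?_, by rw [Over.comp_left, ← Category.assoc, hf.2, hg.2]⟩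
  show b.act ≫ f ≫ g = _
  rw [← Category.assoc, show b.act ≫ f = _ from hf.1]
  refine AlgGrp.Action.hom_ext_lift₂ ?_
  intro Z x w
  simp only [Category.assoc, lift_whiskerLeft_assoc, AlgGrp.Action.restrict_act, lift_whiskerRight_assoc]
  rw [show b'.act ≫ g = _ from hg.1, lift_whiskerLeft_assoc, AlgGrp.Action.restrict_act, lift_whiskerRight_assoc]
  simp only [Functor.map_comp, Category.assoc]

/-- The image of a homomorphism from an affine group to a finite one. -/
theorem exists_image {πN G : Over (Spec (CommRingCat.of k))} [GrpObj πN] [IsAffineHom πN.hom] [GrpObj G]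
    [IsFinite G.hom] (φ : πN ⟶ G) [IsMonHom φ] :
    ∃ (C : Over (Spec (CommRingCat.of k))) (_ : GrpObj C) (q : πN ⟶ C) (i : C ⟶ G), IsMonHom q ∧ IsMonHom i ∧
      q ≫ i = φ ∧ IsSchemeTheoreticallyDominant q.left ∧ IsClosedImmersion i.left ∧ IsFinite C.hom := by
  obtain ⟨C, _, q, i, hq, hi, hqi, hd, hci⟩ := GrpQ.Image.exists_image φ
  refine ⟨C, inferInstance, q, i, hq, hi, hqi, hd, hci, ?_⟩
  rw [← Over.w i]
  infer_instance

/-- A schematically dominant morphism is an epimorphism to a separated scheme. -/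
theorem eq_of_std {W Y Z : Over (Spec (CommRingCat.of k))} [IsAffineHom Z.hom] (q : W ⟶ Y)
    [IsSchemeTheoreticallyDominant q.left] [QuasiCompact q.left] {f g : Y ⟶ Z} (h : q ≫ f = q ≫ g) : f = g := by
  haveI : IsAffine Z.left := isAffine_of_isAffineHom Z.hom
  refine Over.OverMorphism.ext (AlgebraicGeometry.ext_of_isAffine ?_)
  ext x
  refine GrpQ.Image.appTop_injective q.left ?_
  exact congr($(congrArg (fun (z : W ⟶ Z) => z.left.appTop) h) x)

end Groth.Agent.Lib.NoriFGS
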