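import Groth.Agent.Lib.NoriFGS.Induced
import Groth.Prelude.Def_Coh

/-!
# A bound on the orders of the Nori-reduced torsors makes the fundamental group scheme finite
-/

set_option autoImplicit false
set_option linter.style.haveILetI false
set_option linter.unusedSectionVars false

noncomputable section

universe u

open CategoryTheory CategoryTheory.Limits MonoidalCategory CartesianMonoidalCategory AlgebraicGeometry
open scoped MonObj GrpObj

namespace Groth.Agent.Lib.NoriFGS

open _root_.NoriFGS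

variable {k : Type u} [Field k]

/-- The order of a scheme over the field. -/
def ord (G : Over (Spec (CommRingCat.of k))) : ℕ :=
  @Module.finrank k (Coh.Γtop G.left) _ _ (Module.compHom (Coh.Γtop G.left) (Coh.toGlobal G.hom))

/-- An injective restriction between finite schemes of equal order is an isomorphism. -/
theorem isIso_of_ord_le {C D : Over (Spec (CommRingCat.of k))} [IsFinite C.hom] [IsFinite D.hom] (u : C ⟶ D)
    [IsSchemeTheoreticallyDominant u.left] [QuasiCompact u.left] (h : ord C ≤ ord D) : IsIso u := by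
  have : IsAffine C.left := isAffine_of_isAffineHom C.hom
  have : IsAffine D.left := isAffine_of_isAffineHom D.hom
  let gl : ∀ W : Over (Spec (CommRingCat.of k)), k →+* Γ(W.left, ⊤) := fun W =>
    ((Scheme.ΓSpecIso (CommRingCat.of k)).inv ≫ W.hom.appTop).hom
  letI aC : Algebra k Γ(C.left, ⊤) := (gl C).toAlgebra
  letI aD : Algebra k Γ(D.left, ⊤) := (gl D).toAlgebra
  let L : Γ(D.left, ⊤) →ₗ[k] Γ(C.left, ⊤) :=
    ({ u.left.appTop.hom with
        commutes' := fun r => by
          show u.left.appTop (D.hom.appTop _) = C.hom.appTop _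
          rw [← Over.w u]; rfl } : Γ(D.left, ⊤) →ₐ[k] Γ(C.left, ⊤)).toLinearMap
  have hfin : ∀ (W : Over (Spec (CommRingCat.of k))) [IsFinite W.hom], (gl W).Finite := fun W _ => by
    show (W.hom.appTop.hom.comp (Scheme.ΓSpecIso (CommRingCat.of k)).inv.hom).Finite
    exact RingHom.Finite.comp ((HasAffineProperty.iff_of_isAffine (P := @IsFinite) (f := W.hom)).1 inferInstance).2
      (RingHom.Finite.of_surjective _ (ConcreteCategory.bijective_of_isIso _).2)
  have : Module.Finite k Γ(C.left, ⊤) := hfin C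
  have : Module.Finite k Γ(D.left, ⊤) := hfin D
  have hL : Function.Injective L := GrpQ.Image.appTop_injective u.left
  have hle : Module.finrank k Γ(C.left, ⊤) ≤ Module.finrank k Γ(D.left, ⊤) := h
  have hbij : Function.Bijective L := ⟨hL, (LinearMap.injective_iff_surjective_of_finrank_eq_finrank
    (le_antisymm (LinearMap.finrank_le_finrank_of_injective hL) hle)).1 hL⟩
  have : IsIso u.left.appTop := (ConcreteCategory.isIso_iff_bijective _).2 hbij
  have : IsIso (Spec.map u.left.appTop) := inferInstance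
  have : IsIso u.left := by
    rw [show u.left = C.left.isoSpec.hom ≫ Spec.map u.left.appTop ≫ D.left.isoSpec.inv by
      rw [Scheme.isoSpec_inv_naturality, Iso.hom_inv_id_assoc]]
    infer_instance
  exact (isIso_iff_of_reflects_iso u (Over.forget _)).1 this

variable {X : Scheme.{u}} [X.Over (Spec (CommRingCat.of k))] {x : Spec (CommRingCat.of k) ⟶ X}
  (hx : x ≫ (X ↘ Spec (CommRingCat.of k)) = 𝟙 _)

include hx in
/-- A bound on the orders of the Nori-reduced torsors makes the fundamental group scheme finite. -/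
theorem isFinite_of_bound {πN : Over (Spec (CommRingCat.of k))} [GrpObj πN] {P : Over X}
    {a : AlgGrp.Action (Red.bc (X ↘ Spec (CommRingCat.of k)) πN) P} {p : Spec (CommRingCat.of k) ⟶ P.left}
    (hP : IsFGS x πN a p) {M : ℕ}
    (hM : ∀ (G : Over (Spec (CommRingCat.of k))) [GrpObj G] [IsFinite G.hom] (T : Over X)
      (b : AlgGrp.Action (Red.bc (X ↘ Spec (CommRingCat.of k)) G) T) (t : Spec (CommRingCat.of k) ⟶ T.left),
      NonAbH1.IsTorsorFor Scheme.fpqcPrecoverage b → t ≫ T.hom = x →
      IsNoriReduced Scheme.fpqcPrecoverage b → ord G ≤ M) :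
    IsFinite πN.hom := by
  obtain ⟨PP⟩ := id hP.1
  letI := PP.cat
  haveI := PP.cofiltered
  haveI := fun i => PP.finite i
  letI := fun i => PP.grp i
  haveI := fun i => PP.isMonHom_π i
  have := isAffineHom_of_proFinite hP.1
  have hi : ∀ i, ∃ (C : Over (Spec (CommRingCat.of k))) (_ : IsFinite C.hom) (q : πN ⟶ C) (inc : C ⟶ PP.D.obj i),
      q ≫ inc = (show πN ⟶ PP.D.obj i from PP.π.app i) ∧ IsSchemeTheoreticallyDominant q.left ∧
        IsClosedImmersion inc.left ∧ ord C ≤ M := by
    intro i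
    obtain ⟨C, _, _, q, inc, _, _, T, b, t, m, h1, h2, h3, hb, ht, hred, -⟩ :=
      exists_reduced_quot hx hP (show πN ⟶ PP.D.obj i from PP.π.app i)
    exact ⟨C, ‹_›, q, inc, h1, h2, h3, hM C T b t hb ht hred⟩
  choose C hC q inc hqi hq hinc hord using hi
  obtain ⟨i₀, hmax⟩ : ∃ i₀, ∀ j, ord (C j) ≤ ord (C i₀) := by
    obtain ⟨i₁⟩ : Nonempty PP.I := IsCofiltered.nonempty
    obtain ⟨n, ⟨i₀, rfl⟩, hn⟩ : ∃ n ∈ Set.range fun j => ord (C j), ∀ m ∈ Set.range fun j => ord (C j), m ≤ n :=
      ⟨_, Nat.sSup_mem ⟨_, i₁, rfl⟩ ⟨M, by rintro _ ⟨j, rfl⟩; exact hord j⟩,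
        fun m hm => le_csSup ⟨M, by rintro _ ⟨j, rfl⟩; exact hord j⟩ hm⟩
    exact ⟨i₀, fun j => hn _ ⟨j, rfl⟩⟩
  haveI hfinC := fun i => hC i
  haveI := fun i => hq i
  haveI := fun i => hinc i
  haveI : IsAffine πN.left := isAffine_of_isAffineHom πN.hom
  haveI haff : ∀ i, IsAffine (C i).left := fun i => isAffine_of_isAffineHom (C i).hom
  haveI : ∀ i, IsAffine (PP.D.obj i).left := fun i => isAffine_of_isAffineHom (PP.D.obj i).hom
  have hfac : ∀ {j : PP.I} (w : j ⟶ i₀), ∃ e : C i₀ ⟶ C j, q i₀ ≫ e = q j := by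
    intro j w
    have hc : q j ≫ inc j ≫ PP.D.map w = q i₀ ≫ inc i₀ := by
      rw [reassoc_of% hqi j, hqi i₀]
      exact ((Category.id_comp _).symm.trans (PP.π.naturality w)).symm
    have H : (inc i₀).left.ker ≤ (inc j ≫ PP.D.map w).left.ker := by
      rw [← GrpQ.Image.ker_comp_eq (q j).left (inc j ≫ PP.D.map w).left, ← Over.comp_left, hc, Over.comp_left]
      exact Scheme.Hom.le_ker_comp _ _
    let u : C j ⟶ C i₀ := Over.homMk (IsClosedImmersion.lift (inc i₀).left (inc j ≫ PP.D.map w).left H) (by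
      rw [← Over.w (inc i₀), IsClosedImmersion.lift_fac_assoc, Over.w])
    have hu : u ≫ inc i₀ = inc j ≫ PP.D.map w := Over.OverMorphism.ext (IsClosedImmersion.lift_fac _ _ _)
    have hqu : q j ≫ u = q i₀ := by
      have : Mono (inc i₀) := (Over.forget _).mono_of_mono_map (f := inc i₀) (inferInstanceAs (Mono (inc i₀).left))
      rw [← cancel_mono (inc i₀), Category.assoc, hu, hc]
    have : IsSchemeTheoreticallyDominant ((q j).left ≫ u.left) := by rw [← Over.comp_left, hqu]; infer_instance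
    have : IsSchemeTheoreticallyDominant u.left := std_of_comp (q j).left u.left
    have := isIso_of_ord_le u (hmax j)
    exact ⟨inv u, by rw [← hqu, Category.assoc, IsIso.hom_inv_id, Category.comp_id]⟩
  have hcone : ∀ i, ∃ e : C i₀ ⟶ PP.D.obj i, q i₀ ≫ e = (show πN ⟶ PP.D.obj i from PP.π.app i) := by
    intro i
    obtain ⟨e, he⟩ := hfac (IsCofiltered.minToLeft i₀ i)
    refine ⟨e ≫ inc _ ≫ PP.D.map (IsCofiltered.minToRight i₀ i), ?_⟩
    rw [reassoc_of% he, reassoc_of% hqi _]
    exact ((Category.id_comp (PP.π.app i)).symm.trans (PP.π.naturality (IsCofiltered.minToRight i₀ i))).symm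
  choose e he using hcone
  haveI : ∀ i, IsAffineHom (PP.D.obj i).hom := fun i => inferInstance
  let s : C i₀ ⟶ πN := PP.isLimit.lift (Cone.mk (C i₀)
    { app := e
      naturality := fun i j w => by
        refine eq_of_std (q i₀) ?_
        show q i₀ ≫ 𝟙 _ ≫ e j = q i₀ ≫ e i ≫ PP.D.map w
        rw [Category.id_comp, he, reassoc_of% he i]
        exact (Category.id_comp _).symm.trans (PP.π.naturality w) })
  have hs : ∀ i, s ≫ (show πN ⟶ PP.D.obj i from PP.π.app i) = e i := fun i => PP.isLimit.fac _ i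
  have h1 : q i₀ ≫ s = 𝟙 πN := PP.isLimit.hom_ext fun i => by
    show (q i₀ ≫ s) ≫ (show πN ⟶ PP.D.obj i from PP.π.app i) = 𝟙 πN ≫ _
    rw [Category.assoc, hs, he, Category.id_comp]
  haveI : IsAffineHom (C i₀).hom := inferInstance
  have h2 : s ≫ q i₀ = 𝟙 _ := eq_of_std (q i₀) (by rw [reassoc_of% h1, Category.comp_id])
  have : IsIso (q i₀) := ⟨s, h1, h2⟩
  have : IsIso (q i₀).left := (inferInstance : IsIso ((Over.forget _).map (q i₀)))
  rw [← Over.w (q i₀)]
  infer_instance

end Groth.Agent.Lib.NoriFGS
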