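import Groth.Agent.Lib.NoriFGS.Basic

/-!
# Functions on a pro-finite group, and dominant homomorphisms of affine groups
-/

set_option autoImplicit false
set_option linter.style.haveILetI false

noncomputable section

universe u

open CategoryTheory CategoryTheory.Limits MonoidalCategory CartesianMonoidalCategory AlgebraicGeometry
open scoped MonObj GrpObj

namespace Groth.Agent.Lib.NoriFGS

open _root_.NoriFGS

variable {k : Type u} [Field k]

theorem exists_appTop_π {πN : Over (Spec (CommRingCat.of k))} [GrpObj πN] (P : ProFinPres πN)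
    (s : Γ(πN.left, ⊤)) :
    letI := P.cat
    ∃ (i : P.I) (d : Γ((P.D.obj i).left, ⊤)), s = (show πN ⟶ P.D.obj i from P.π.app i).left.appTop d := by
  letI := P.cat
  haveI := P.cofiltered
  haveI := IsCofiltered.isConnected P.I
  haveI : ∀ i, IsAffine (P.D.obj i).left := fun i => by
    haveI := P.finite i
    exact isAffine_of_isAffineHom (P.D.obj i).hom
  let D' := P.D ⋙ Over.forget _
  let c : Cone D' := (Over.forget _).mapCone (Cone.mk πN P.π)
  have hc : IsLimit c := isLimitOfPreserves (Over.forget _) P.isLimit
  haveI : ∀ i, IsAffine (D'.obj i) := fun i => inferInstanceAs (IsAffine (P.D.obj i).left)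
  haveI : ∀ {i j : P.I} (f : i ⟶ j), IsAffineHom (D'.map f) := fun f => inferInstance
  exact exists_appTop_π_eq_of_isLimit D' c hc s

theorem std_of_comp {W Y Z : Scheme.{u}} (f : W ⟶ Y) (g : Y ⟶ Z) [IsAffine Z] [QuasiCompact (f ≫ g)]
    [IsSchemeTheoreticallyDominant (f ≫ g)] : IsSchemeTheoreticallyDominant g := by
  refine GrpQ.Image.std_of_appTop_injective g ?_
  have h := GrpQ.Image.appTop_injective (f ≫ g)
  rw [Scheme.Hom.comp_appTop] at h
  intro a b e
  refine h ?_
  show f.appTop (g.appTop a) = f.appTop (g.appTop b)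
  rw [e]

theorem std_of_flat_surjective {W Y : Scheme.{u}} [IsAffine W] [IsAffine Y] (g : W ⟶ Y) [Flat g] [Surjective g] :
    IsSchemeTheoreticallyDominant g := by
  refine GrpQ.Image.std_of_appTop_injective g ?_
  have h : g.appTop.hom.FaithfullyFlat := by
    refine RingHom.FaithfullyFlat.iff_flat_and_comap_surjective.2
      ⟨HasRingHomProperty.appTop (P := @Flat) g inferInstance, ?_⟩
    have : Surjective (Spec.map g.appTop) := by
      rw [← MorphismProperty.cancel_right_of_respectsIso (P := @Surjective) _ Y.isoSpec.inv,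
        Scheme.isoSpec_inv_naturality]
      infer_instance
    exact this.surj
  exact h.injective

/-- A schematically dominant homomorphism of affine groups over a field is faithfully flat. -/
theorem flat_surjective_of_std {G C : Over (Spec (CommRingCat.of k))} [GrpObj G] [GrpObj C]
    [IsAffine G.left] [IsAffine C.left] (q : G ⟶ C) [IsMonHom q] [IsSchemeTheoreticallyDominant q.left] :
    Flat q.left ∧ Surjective q.left := by
  obtain ⟨A, _, _, e, he⟩ := H1.Hopf.exists_iso C
  obtain ⟨B, _, _, e', he'⟩ := H1.Hopf.exists_iso G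
  have : IsMonHom e'.hom := he'
  have : IsMonHom e.hom := he
  have : IsMonHom e'.inv := inferInstance
  let F : GrpQ.AffQ.sp k B ⟶ GrpQ.AffQ.sp k A := e'.inv ≫ q ≫ e.hom
  obtain ⟨φ, hφ⟩ := GrpQ.DomFlat.exists_bialgHom F
  have hie : IsIso e.hom.left := ((Over.forget _).mapIso e).isIso_hom
  have hie' : IsIso e'.inv.left := ((Over.forget _).mapIso e').symm.isIso_hom
  have hstd : IsSchemeTheoreticallyDominant F.left := by
    change IsSchemeTheoreticallyDominant (e'.inv.left ≫ q.left ≫ e.hom.left)
    infer_instance
  have hinj : Function.Injective φ := by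
    have hn := Scheme.ΓSpecIso_inv_naturality (CommRingCat.ofHom (φ : A →+* B))
    have h := GrpQ.Image.appTop_injective F.left
    intro a a' haa
    apply (Scheme.ΓSpecIso (CommRingCat.of A)).commRingCatIsoToRingEquiv.symm.injective
    apply h
    show F.left.appTop ((Scheme.ΓSpecIso (CommRingCat.of A)).inv a) =
      F.left.appTop ((Scheme.ΓSpecIso (CommRingCat.of A)).inv a')
    rw [← hφ, GrpQ.AffQ.homOfBialgHom_left]
    exact ((ConcreteCategory.congr_hom hn a).symm.trans (by
      show (Scheme.ΓSpecIso (CommRingCat.of B)).inv (φ a) = (Scheme.ΓSpecIso (CommRingCat.of B)).inv (φ a')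
      rw [haa])).trans (ConcreteCategory.congr_hom hn a')
  obtain ⟨h1, h2⟩ := GrpQ.DomFlat.flat_surjective_of_injective φ hinj
  rw [hφ] at h1 h2
  have hq : q.left = e'.hom.left ≫ F.left ≫ e.inv.left := by
    rw [← Over.comp_left, ← Over.comp_left]
    simp [F]
  have : IsIso e'.hom.left := ((Over.forget _).mapIso e').isIso_hom
  have : IsIso e.inv.left := ((Over.forget _).mapIso e).symm.isIso_hom
  rw [hq]
  exact ⟨inferInstance, inferInstance⟩

end Groth.Agent.Lib.NoriFGS
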