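import Groth.Agent.Lib.NoriFGS.Reduced
import Groth.Agent.Lib.NoriFGS.Groups

/-!
# Morphisms of push-forwards, and Nori-reduced torsors have dominant classifying homomorphism
-/

set_option autoImplicit false
set_option linter.style.haveILetI false
set_option linter.unusedSectionVars false

noncomputable section

universe u

open CategoryTheory CategoryTheory.Limits MonoidalCategory CartesianMonoidalCategory AlgebraicGeometry
open scoped MonObj GrpObj

namespace Groth.Agent.Lib.NoriFGS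

open _root_.NoriFGS Groth.Agent.Lib.RedPts

section Abstract

variable {S : Scheme.{u}} {A B C P Q R : Over S} [GrpObj A] [GrpObj B] [GrpObj C]
  {a : AlgGrp.Action A P} {b : AlgGrp.Action B Q} {c : AlgGrp.Action C R}

/-- The universal property of the extension of the structure group. -/
theorem exists_hom_of_push (φ : A ⟶ B) [IsMonHom φ] (ψ : B ⟶ C) [IsMonHom ψ]
    (ha : NonAbH1.IsPseudoTorsorSch a) (hb : NonAbH1.IsPseudoTorsorSch b)
    [Flat P.hom] [Surjective P.hom] [QuasiCompact P.hom]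
    (f : P ⟶ Q) (hf : ∀ {Z : Over S} (g : Z ⟶ A) (w : Z ⟶ P), (lift g w ≫ a.act) ≫ f = lift (g ≫ φ) (w ≫ f) ≫ b.act)
    (f' : P ⟶ R)
    (hf' : ∀ {Z : Over S} (g : Z ⟶ A) (w : Z ⟶ P),
      (lift g w ≫ a.act) ≫ f' = lift ((g ≫ φ) ≫ ψ) (w ≫ f') ≫ c.act) :
    ∃ h : Q ⟶ R, f ≫ h = f' ∧
      ∀ {Z : Over S} (g : Z ⟶ B) (y : Z ⟶ Q), (lift g y ≫ b.act) ≫ h = lift (g ≫ ψ) (y ≫ h) ≫ c.act := by
  let F : ∀ {Z : Over S} (_ : Z ⟶ Q) (_ : Z ⟶ P), Z ⟶ R := fun {Z} y x =>
    lift ((TorsorSch.FibreProd.existsUnique_of_pseudo hb (x ≫ f) y).choose ≫ ψ) (x ≫ f') ≫ c.act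
  have hF : ∀ {Z : Over S} (y : Z ⟶ Q) (x : Z ⟶ P) (g : Z ⟶ B), lift g (x ≫ f) ≫ b.act = y →
      F y x = lift (g ≫ ψ) (x ≫ f') ≫ c.act := by
    intro Z y x g hg
    simp only [F]
    rw [(TorsorSch.FibreProd.existsUnique_of_pseudo hb (x ≫ f) y).choose_spec.2 g hg]
  have hcomp : ∀ {Z Z' : Over S} (r : Z' ⟶ Z) (y : Z ⟶ Q) (x : Z ⟶ P), r ≫ F y x = F (r ≫ y) (r ≫ x) := by
    intro Z Z' r y x
    obtain ⟨g, hg, -⟩ := TorsorSch.FibreProd.existsUnique_of_pseudo hb (x ≫ f) y
    rw [hF y x g hg, hF (r ≫ y) (r ≫ x) (r ≫ g) (by rw [← hg, comp_lift_assoc, Category.assoc]),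
      comp_lift_assoc, Category.assoc, Category.assoc]
  have hind : ∀ {Z : Over S} (y : Z ⟶ Q) (x x' : Z ⟶ P), F y x = F y x' := by
    intro Z y x x'
    obtain ⟨g, hg, -⟩ := TorsorSch.FibreProd.existsUnique_of_pseudo ha x x'
    obtain ⟨e, he, -⟩ := TorsorSch.FibreProd.existsUnique_of_pseudo hb (x' ≫ f) y
    rw [hF y x (e * (g ≫ φ)) (by rw [GrpSch.act_mul, ← hf, hg, he]), hF y x' e he, MonObj.mul_comp, GrpSch.act_mul,
      ← hf', hg]
  have hepi : ∀ W : Over S, EffectiveEpi (fst W P).left := fun W =>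
    inferInstanceAs (EffectiveEpi (pullback.fst W.hom P.hom))
  have := hepi Q
  have hall : ∀ {Z : Scheme.{u}} (g₁ g₂ : Z ⟶ (Q ⊗ P).left), g₁ ≫ (fst Q P).left = g₂ ≫ (fst Q P).left →
      g₁ ≫ (F (fst Q P) (snd Q P)).left = g₂ ≫ (F (fst Q P) (snd Q P)).left := by
    intro Z g₁ g₂ e
    let k₁ : Over.mk (g₁ ≫ (Q ⊗ P).hom) ⟶ Q ⊗ P := Over.homMk g₁ rfl
    let k₂ : Over.mk (g₁ ≫ (Q ⊗ P).hom) ⟶ Q ⊗ P := Over.homMk g₂ (by
      change g₂ ≫ (Q ⊗ P).hom = g₁ ≫ (Q ⊗ P).hom
      rw [← Over.w (fst Q P), ← Category.assoc, ← e, Category.assoc])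
    have hk : k₁ ≫ fst Q P = k₂ ≫ fst Q P := Over.OverMorphism.ext e
    refine congrArg Over.Hom.left (show k₁ ≫ F (fst Q P) (snd Q P) = k₂ ≫ F (fst Q P) (snd Q P) from ?_)
    rw [hcomp, hcomp, hk]
    exact hind _ _ _
  let h : Q ⟶ R := Over.homMk (EffectiveEpi.desc (fst Q P).left (F (fst Q P) (snd Q P)).left hall) (by
    rw [← cancel_epi (fst Q P).left, EffectiveEpi.fac_assoc, Over.w, Over.w (fst Q P)])
  have hh : fst Q P ≫ h = F (fst Q P) (snd Q P) := Over.OverMorphism.ext (EffectiveEpi.fac _ _ hall)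
  have key : ∀ {Z : Over S} (y : Z ⟶ Q) (x : Z ⟶ P), y ≫ h = F y x := by
    intro Z y x
    have := congrArg (lift y x ≫ ·) hh
    simp only [lift_fst_assoc, hcomp, lift_fst, lift_snd] at this
    exact this
  refine ⟨h, ?_, fun {Z} g y => ?_⟩
  · rw [key f (𝟙 P), hF f (𝟙 P) 1 (by rw [Category.id_comp, GrpSch.act_one]), Category.id_comp, MonObj.one_comp,
      GrpSch.act_one]
  · have := hepi Z
    have : Epi (fst Z P) := (Over.forget S).epi_of_epi_map (f := fst Z P)
      (inferInstanceAs (Epi (fst Z P).left))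
    rw [← cancel_epi (fst Z P), ← Category.assoc (fst Z P) (lift g y ≫ b.act) h, comp_lift_assoc,
      key (lift (fst Z P ≫ g) (fst Z P ≫ y) ≫ b.act) (snd Z P), comp_lift_assoc, ← Category.assoc (fst Z P) y h,
      key (fst Z P ≫ y) (snd Z P)]
    obtain ⟨e, he, -⟩ := TorsorSch.FibreProd.existsUnique_of_pseudo hb (snd Z P ≫ f) (fst Z P ≫ y)
    rw [hF _ _ e he, hF _ _ ((fst Z P ≫ g) * e) (by rw [GrpSch.act_mul, he]), MonObj.mul_comp, GrpSch.act_mul,
      Category.assoc]

/-- An equivariant morphism of torsors along a closed immersion is a closed immersion. -/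
theorem isClosedImmersion_of_push {g : A ⟶ B} [IsClosedImmersion g.left]
    (ha : NonAbH1.IsTorsorFor Scheme.fpqcPrecoverage a) (hb : NonAbH1.IsPseudoTorsorSch b)
    (f : P ⟶ Q) (hf : ∀ {Z : Over S} (x : Z ⟶ A) (w : Z ⟶ P), (lift x w ≫ a.act) ≫ f = lift (x ≫ g) (w ≫ f) ≫ b.act) :
    IsClosedImmersion f.left :=
  TorsorSch.Descent.of_forall_whiskerRight (P := @IsClosedImmersion) ha.2 f fun {T} s ↦ by
    have := TorsorSch.Basic.isIso_triv a ha.1 s
    have := TorsorSch.Basic.isIso_triv b hb (s ≫ f)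
    have e : TorsorSch.Basic.triv a s ≫ f ▷ T = g ▷ T ≫ TorsorSch.Basic.triv b (s ≫ f) := by
      apply CartesianMonoidalCategory.hom_ext
      · simp only [Category.assoc, whiskerRight_fst, TorsorSch.Basic.triv_fst_assoc, TorsorSch.Basic.triv_fst]
        have h1 : A ◁ s = lift (fst A T) (snd A T ≫ s) := by
          apply CartesianMonoidalCategory.hom_ext <;> simp
        have h2 : g ▷ T ≫ (B ◁ (s ≫ f)) = lift (fst A T ≫ g) (snd A T ≫ s ≫ f) := by
          apply CartesianMonoidalCategory.hom_ext <;> simp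
        rw [← Category.assoc (A ◁ s), h1, hf, Category.assoc, ← h2, Category.assoc]
      · simp
    have : IsIso (TorsorSch.Basic.triv a s).left :=
      (inferInstance : IsIso ((Over.forget S).map (TorsorSch.Basic.triv a s)))
    have : IsIso (TorsorSch.Basic.triv b (s ≫ f)).left :=
      (inferInstance : IsIso ((Over.forget S).map (TorsorSch.Basic.triv b (s ≫ f))))
    have hg : IsClosedImmersion (g ▷ T).left :=
      MorphismProperty.of_isPullback (GrpSch.isPullback_whiskerRight g T).flip ‹IsClosedImmersion g.left›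
    rw [← MorphismProperty.cancel_left_of_respectsIso (P := @IsClosedImmersion)
      (TorsorSch.Basic.triv a s).left, ← Over.comp_left, e, Over.comp_left,
      MorphismProperty.cancel_right_of_respectsIso (P := @IsClosedImmersion)]
    exact hg

end Abstract

variable {k : Type u} [Field k] {X : Scheme.{u}} [X.Over (Spec (CommRingCat.of k))]

/-- Equivariance of a morphism of pointed torsors, on points. -/
theorem ptTorsorHom_act {G G' : Over (Spec (CommRingCat.of k))} [GrpObj G] [GrpObj G'] {T T' : Over X}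
    {b : AlgGrp.Action (Red.bc (X ↘ Spec (CommRingCat.of k)) G) T}
    {b' : AlgGrp.Action (Red.bc (X ↘ Spec (CommRingCat.of k)) G') T'}
    {t : Spec (CommRingCat.of k) ⟶ T.left} {t' : Spec (CommRingCat.of k) ⟶ T'.left}
    {φ : G ⟶ G'} [IsMonHom φ] {f : T ⟶ T'} (hf : IsPtTorsorHom b t b' t' φ f) {Z : Over X}
    (g : Z ⟶ Red.bc (X ↘ Spec (CommRingCat.of k)) G) (w : Z ⟶ T) :
    (lift g w ≫ b.act) ≫ f =
      lift (g ≫ (Over.pullback (X ↘ Spec (CommRingCat.of k))).map φ) (w ≫ f) ≫ b'.act := by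
  rw [Category.assoc, show b.act ≫ f = _ from hf.1, lift_whiskerLeft_assoc, AlgGrp.Action.lift_restrict_act]

/-- Equivariance of a morphism of pointed torsors, from points. -/
theorem isPtTorsorHom_mk {G G' : Over (Spec (CommRingCat.of k))} [GrpObj G] [GrpObj G'] {T T' : Over X}
    {b : AlgGrp.Action (Red.bc (X ↘ Spec (CommRingCat.of k)) G) T}
    {b' : AlgGrp.Action (Red.bc (X ↘ Spec (CommRingCat.of k)) G') T'}
    {t : Spec (CommRingCat.of k) ⟶ T.left} {t' : Spec (CommRingCat.of k) ⟶ T'.left}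
    {φ : G ⟶ G'} [IsMonHom φ] {f : T ⟶ T'}
    (hf : ∀ {Z : Over X} (g : Z ⟶ Red.bc (X ↘ Spec (CommRingCat.of k)) G) (w : Z ⟶ T),
      (lift g w ≫ b.act) ≫ f =
        lift (g ≫ (Over.pullback (X ↘ Spec (CommRingCat.of k))).map φ) (w ≫ f) ≫ b'.act)
    (ht : t ≫ f.left = t') : IsPtTorsorHom b t b' t' φ f := by
  refine ⟨AlgGrp.Action.hom_ext_lift₂ fun {Z} g w => ?_, ht⟩
  rw [← Category.assoc, hf, lift_whiskerLeft_assoc, AlgGrp.Action.lift_restrict_act]

/-- A Nori-reduced pointed torsor receiving the pointed torsor of an affine group has schematically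
dominant classifying homomorphism. -/
theorem std_of_isNoriReduced {x : Spec (CommRingCat.of k) ⟶ X} (hx : x ≫ (X ↘ Spec (CommRingCat.of k)) = 𝟙 _)
    {πN G : Over (Spec (CommRingCat.of k))} [GrpObj πN] [IsAffineHom πN.hom] [GrpObj G] [IsFinite G.hom]
    {P : Over X} {a : AlgGrp.Action (Red.bc (X ↘ Spec (CommRingCat.of k)) πN) P}
    (ha : NonAbH1.IsTorsorFor Scheme.fpqcPrecoverage a) {p : Spec (CommRingCat.of k) ⟶ P.left}
    (hp : p ≫ P.hom = x) {T : Over X} {b : AlgGrp.Action (Red.bc (X ↘ Spec (CommRingCat.of k)) G) T}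
    {t : Spec (CommRingCat.of k) ⟶ T.left} (hb : NonAbH1.IsTorsorFor Scheme.fpqcPrecoverage b)
    {φ : πN ⟶ G} [IsMonHom φ] {f : P ⟶ T} (hf : IsPtTorsorHom a p b t φ f)
    (hred : IsNoriReduced Scheme.fpqcPrecoverage b) : IsSchemeTheoreticallyDominant φ.left := by
  obtain ⟨C, _, q, i, _, _, hqi, _, _, _⟩ := exists_image φ
  obtain ⟨V, c, fV, hc, hfV⟩ := exists_push q ha p
  let p' := X ↘ Spec (CommRingCat.of k)
  obtain ⟨_, hPf, hPs, -⟩ := torsor_props ha
  obtain ⟨j, hj, hje⟩ := exists_hom_of_push ((Over.pullback p').map q) ((Over.pullback p').map i) ha.1 hc.1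
    fV (fun g w => ptTorsorHom_act hfV g w) f (fun {Z} g w => by
      rw [ptTorsorHom_act hf, Category.assoc g, ← Functor.map_comp]
      simp only [hqi]
      rfl)
  have : IsClosedImmersion ((Over.pullback p').map i).left :=
    MorphismProperty.overPullbackMap (P := @IsClosedImmersion) p' i ‹_›
  have : IsClosedImmersion j.left := isClosedImmersion_of_push hc hb.1 j fun g w => hje g w
  have : IsIso j := hred C i V j c hc (by
    refine AlgGrp.Action.hom_ext_lift₂ fun {Z} g w => ?_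
    rw [← Category.assoc, hje, lift_whiskerLeft_assoc, AlgGrp.Action.lift_restrict_act])
  have hv : (p ≫ fV.left) ≫ V.hom = x := by rw [Category.assoc, Over.w, hp]
  have hjt : (p ≫ fV.left) ≫ j.left = t := by rw [Category.assoc, ← Over.comp_left, hj, hf.2]
  have ht : t ≫ T.hom = x := by rw [← hjt, Category.assoc, Over.w, hv]
  have hall : ∀ {S : Over (Spec (CommRingCat.of k))} (g : S ⟶ G), ∃ h, h ≫ i = g := by
    intro S g
    obtain ⟨hX, hhX, -⟩ := TorsorSch.FibreProd.existsUnique_of_pseudo hc.1 (tS hv S) (orb hx b ht g ≫ inv j)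
    obtain ⟨h, rfl⟩ := exists_upx hx hX
    refine ⟨h, orb_injective hx b ht hb.1 ?_⟩
    have e : tS hv S ≫ j = tS ht S := Over.OverMorphism.ext (by
      show (S.hom ≫ p ≫ fV.left) ≫ j.left = S.hom ≫ t
      rw [Category.assoc, hjt])
    have h' := congrArg (· ≫ j) hhX
    simp only [hje, e, Category.assoc, IsIso.inv_hom_id, Category.comp_id] at h'
    rw [← h', ← upx_map]
    rfl
  obtain ⟨s, hs⟩ := hall (𝟙 G)
  have := mono_of_closed i
  have : IsIso i := ⟨s, by rw [← cancel_mono i, Category.assoc, hs, Category.comp_id, Category.id_comp], hs⟩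
  have : IsIso i.left := (inferInstance : IsIso ((Over.forget _).map i))
  rw [← hqi, Over.comp_left]
  infer_instance

end Groth.Agent.Lib.NoriFGS
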