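import Groth.Agent.Lib.NoriFGS.Hom

/-!
# Pull-back of pointed torsors and the induced homomorphism
-/

set_option autoImplicit false
set_option linter.style.haveILetI false
set_option linter.unusedSectionVars false

noncomputable section

universe u

open CategoryTheory CategoryTheory.Limits MonoidalCategory CartesianMonoidalCategory AlgebraicGeometry
open scoped MonObj GrpObj

namespace Groth.Agent.Lib.NoriFGS

open _root_.NoriFGS Groth.Agent.Lib.RedPts

variable {k : Type u} [Field k] {X Y : Scheme.{u}} [X.Over (Spec (CommRingCat.of k))]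
  [Y.Over (Spec (CommRingCat.of k))] (f : X ⟶ Y)
  (hf : f ≫ (Y ↘ Spec (CommRingCat.of k)) = X ↘ Spec (CommRingCat.of k))

/-- The pull-back of a torsor under a group over the field. -/
abbrev bcAct {H : Over (Spec (CommRingCat.of k))} [GrpObj H] {U : Over Y}
    (c : AlgGrp.Action (Red.bc (Y ↘ Spec (CommRingCat.of k)) H) U) :
    AlgGrp.Action (Red.bc (X ↘ Spec (CommRingCat.of k)) H) (Red.bc f U) :=
  (c.bc f).restrict (ActBC.bcCompIso f (Y ↘ Spec (CommRingCat.of k)) H hf).inv

variable {f hf}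

theorem isTorsorFor_bcAct {H : Over (Spec (CommRingCat.of k))} [GrpObj H] {U : Over Y}
    {c : AlgGrp.Action (Red.bc (Y ↘ Spec (CommRingCat.of k)) H) U}
    (hc : NonAbH1.IsTorsorFor Scheme.fpqcPrecoverage c) :
    NonAbH1.IsTorsorFor Scheme.fpqcPrecoverage (bcAct f hf c) := by
  have h := NonAbH1.isTorsorFor_bc f _ hc
  refine ⟨TorsorSch.FibreProd.pseudo_of_existsUnique fun {Z} u v => ?_, h.2⟩
  obtain ⟨g, hg, hu⟩ := TorsorSch.FibreProd.existsUnique_of_pseudo h.1 u v
  refine ⟨g ≫ (ActBC.bcCompIso f _ H hf).hom, ?_, fun g' hg' => ?_⟩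
  · show lift _ u ≫ (bcAct f hf c).act = v
    rw [AlgGrp.Action.lift_restrict_act, Category.assoc, Iso.hom_inv_id, Category.comp_id]
    exact hg
  · rw [← hu (g' ≫ (ActBC.bcCompIso f _ H hf).inv) (by
      show lift _ u ≫ (c.bc f).act = v
      rw [← AlgGrp.Action.lift_restrict_act]; exact hg'), Category.assoc, Iso.inv_hom_id, Category.comp_id]

variable (f) in
/-- The marked point of a pull-back. -/
abbrev bcPt {U : Over Y} (u : Spec (CommRingCat.of k) ⟶ U.left) (x : Spec (CommRingCat.of k) ⟶ X)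
    (h : u ≫ U.hom = x ≫ f) : Spec (CommRingCat.of k) ⟶ (Red.bc f U).left :=
  pullback.lift u x h

theorem bcPt_hom {U : Over Y} {u : Spec (CommRingCat.of k) ⟶ U.left} {x : Spec (CommRingCat.of k) ⟶ X}
    (h : u ≫ U.hom = x ≫ f) : bcPt f u x h ≫ (Red.bc f U).hom = x :=
  pullback.lift_snd _ _ _

variable {πX πY H : Over (Spec (CommRingCat.of k))} [GrpObj πX] [GrpObj πY] [GrpObj H] {PX : Over X} {PY : Over Y}
  {aX : AlgGrp.Action (Red.bc (X ↘ Spec (CommRingCat.of k)) πX) PX}
  {aY : AlgGrp.Action (Red.bc (Y ↘ Spec (CommRingCat.of k)) πY) PY}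
  {pX : Spec (CommRingCat.of k) ⟶ PX.left} {pY : Spec (CommRingCat.of k) ⟶ PY.left}
  {U : Over Y} {c : AlgGrp.Action (Red.bc (Y ↘ Spec (CommRingCat.of k)) H) U}
  {u : Spec (CommRingCat.of k) ⟶ U.left}

/-- A morphism of pointed torsors over `Y` composed with the induced morphism. -/
theorem exists_induced_comp {x : Spec (CommRingCat.of k) ⟶ X} (hpX : pX ≫ PX.hom = x)
    {φ : πX ⟶ πY} [IsMonHom φ] (hφ : IsInducedHom f hf aX pX aY pY φ) {ψ : πY ⟶ H} [IsMonHom ψ] {h : PY ⟶ U}
    (hh : IsPtTorsorHom aY pY c u ψ h) (hu : u ≫ U.hom = x ≫ f) :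
    ∃ m : PX ⟶ Red.bc f U, IsPtTorsorHom aX pX (bcAct f hf c) (bcPt f u x hu) (φ ≫ ψ) m := by
  obtain ⟨_, g, hg, hgp⟩ := hφ
  let e := ActBC.bcCompIso f (Y ↘ Spec (CommRingCat.of k)) πX hf
  let e' := ActBC.bcCompIso f (Y ↘ Spec (CommRingCat.of k)) H hf
  let φY := (Over.pullback (Y ↘ Spec (CommRingCat.of k))).map φ
  let ψY := (Over.pullback (Y ↘ Spec (CommRingCat.of k))).map ψ
  refine ⟨g ≫ (Over.pullback f).map h, isPtTorsorHom_mk (fun {Z} z w => ?_) ?_⟩
  · have h1 : (lift z w ≫ aX.act) ≫ g = lift ((z ≫ e.inv) ≫ (Over.pullback f).map φY) (w ≫ g) ≫ (aY.bc f).act := by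
      have := congrArg (lift (z ≫ e.inv) w ≫ ·) (show _ ≫ g = _ from hg)
      simp only [AlgGrp.Action.lift_restrict_act_assoc, lift_whiskerLeft_assoc, AlgGrp.Action.lift_restrict_act] at this
      rw [Category.assoc] at this
      simp only [e, Iso.inv_hom_id, Category.comp_id] at this
      rw [Category.assoc]
      simpa only [e, φY, Category.assoc] using this
    have h2 : ∀ (q : Z ⟶ Red.bc f (Red.bc (Y ↘ Spec (CommRingCat.of k)) πY)) (y : Z ⟶ Red.bc f PY),
        (lift q y ≫ (aY.bc f).act) ≫ (Over.pullback f).map h =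
          lift (q ≫ (Over.pullback f).map ψY) (y ≫ (Over.pullback f).map h) ≫ (c.bc f).act := by
      intro q y
      have := AlgGrp.Action.isEquivariant_bc f (show AlgGrp.Action.IsEquivariant aY _ h from hh.1)
      unfold AlgGrp.Action.IsEquivariant at this
      rw [Category.assoc, this, AlgGrp.Action.bc_restrict, lift_whiskerLeft_assoc, AlgGrp.Action.lift_restrict_act]
    rw [← Category.assoc (lift z w ≫ aX.act) g, h1, h2, AlgGrp.Action.lift_restrict_act, Category.assoc w g]
    refine congrArg (fun q => lift q _ ≫ _) ?_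
    simp only [Category.assoc]
    refine congrArg (z ≫ ·) ?_
    rw [Iso.inv_comp_eq, ← Functor.map_comp, ← Functor.map_comp]
    rw [← Category.assoc, Iso.eq_comp_inv]
    exact ActBC.bcCompIso_hom_naturality f _ hf (φ ≫ ψ)
  · apply pullback.hom_ext
    · rw [Over.comp_left, Category.assoc, Category.assoc, pullback.lift_fst, ActBC.pullback_map_left_fst,
        reassoc_of% hgp]
      exact hh.2
    · rw [pullback.lift_snd, Category.assoc]
      exact (congrArg (pX ≫ ·) (Over.w (g ≫ (Over.pullback f).map h))).trans hpX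

/-- Every finite quotient of a fundamental group scheme classifies a Nori-reduced pointed torsor. -/
theorem exists_reduced_quot {x : Spec (CommRingCat.of k) ⟶ X} (hx : x ≫ (X ↘ Spec (CommRingCat.of k)) = 𝟙 _)
    (hX : IsFGS x πX aX pX) {G : Over (Spec (CommRingCat.of k))} [GrpObj G] [IsFinite G.hom] (ψ : πX ⟶ G)
    [IsMonHom ψ] :
    ∃ (C : Over (Spec (CommRingCat.of k))) (_ : GrpObj C) (_ : IsFinite C.hom) (q : πX ⟶ C) (i : C ⟶ G)
      (_ : IsMonHom q) (_ : IsMonHom i) (T : Over X)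
      (b : AlgGrp.Action (Red.bc (X ↘ Spec (CommRingCat.of k)) C) T) (t : Spec (CommRingCat.of k) ⟶ T.left)
      (m : PX ⟶ T), q ≫ i = ψ ∧ IsSchemeTheoreticallyDominant q.left ∧ IsClosedImmersion i.left ∧
        NonAbH1.IsTorsorFor Scheme.fpqcPrecoverage b ∧ t ≫ T.hom = x ∧
        IsNoriReduced Scheme.fpqcPrecoverage b ∧ IsPtTorsorHom aX pX b t q m := by
  have := isAffineHom_of_proFinite hX.1
  obtain ⟨C, _, q, i, _, _, hqi, hd, hci, _⟩ := exists_image ψ
  obtain ⟨T, b, m, hb, hm⟩ := exists_push q hX.2.1 pX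
  have ht : (pX ≫ m.left) ≫ T.hom = x := by rw [Category.assoc, Over.w, hX.2.2.1]
  exact ⟨C, inferInstance, inferInstance, q, i, inferInstance, inferInstance, T, b, pX ≫ m.left, m, hqi, hd, hci,
    hb, ht, isNoriReduced_of_std hx hX hb ht hm, hm⟩

end Groth.Agent.Lib.NoriFGS
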