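import Groth.Prelude.Def_ActBC
import Groth.Prelude.Def_NonAbH2
import Groth.Agent.Lib.GrpSch.Basic
import Groth.Agent.Lib.GrpSch.ClosedDescent
import Groth.Agent.Lib.TorsorSch.FibreProd
import Groth.Agent.Lib.GrpQ.InfSub

/-!
# The stabiliser of a coset and the corresponding reduction of a torsor

Given a closed subgroup `H` of `G` and a closed subscheme `W` of `G` which is an `H`-coset, locally
for fppf covers, the elements `g` with `W g = W` form a closed subgroup, and any reduction `V` of a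
torsor `T` to `H` gives the reduction `{τ | W τ ⊆ V}` to that subgroup.
-/

set_option autoImplicit false
set_option linter.style.haveILetI false
set_option linter.unusedSectionVars false

noncomputable section

universe u

open CategoryTheory CategoryTheory.Limits MonoidalCategory CartesianMonoidalCategory AlgebraicGeometry
open scoped MonObj GrpObj

namespace Groth.Agent.Lib.NoriFGS

variable {S : Scheme.{u}}

/-- A point lies in a subobject. -/
def Mem {W G T : Over S} (i : W ⟶ G) (g : T ⟶ G) : Prop := ∃ v : T ⟶ W, v ≫ i = g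

theorem Mem.comp {W G T T' : Over S} {i : W ⟶ G} {g : T ⟶ G} (h : Mem i g) (r : T' ⟶ T) : Mem i (r ≫ g) := by
  obtain ⟨v, rfl⟩ := h
  exact ⟨r ≫ v, Category.assoc _ _ _⟩

theorem mono_of_closed {W G : Over S} (i : W ⟶ G) [IsClosedImmersion i.left] : Mono i :=
  (Over.forget S).mono_of_mono_map (f := i) (inferInstanceAs (Mono i.left))

/-- Membership in a closed subscheme descends along covers. -/
theorem mem_of_cover {W G T T' : Over S} (i : W ⟶ G) [IsClosedImmersion i.left] {g : T ⟶ G} (r : T' ⟶ T)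
    (hr : FFDesc.fpqcCover r.left) (h : Mem i (r ≫ g)) : Mem i g := by
  obtain ⟨v, hv⟩ := h
  obtain ⟨w, hw⟩ := GrpSch.exists_factor_mono_of_cover r.left hr g.left i.left ⟨v.left, congrArg Over.Hom.left hv⟩
  exact ⟨Over.homMk w (by rw [← Over.w i, ← Category.assoc, hw, Over.w]), Over.OverMorphism.ext hw⟩

variable {G H W : Over S} [GrpObj G] [GrpObj H] (iH : H ⟶ G) [IsMonHom iH] (iW : W ⟶ G) [IsClosedImmersion iW.left]
  [Flat W.hom] [Surjective W.hom] [LocallyOfFinitePresentation W.hom] [QuasiCompact W.hom]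

theorem cover_snd (T : Over S) : FFDesc.fpqcCover (snd W T).left := by
  have : Flat (snd W T).left := GrpSch.snd_left_of (P := @Flat) T ‹_›
  have : Surjective (snd W T).left := GrpSch.snd_left_of (P := @Surjective) T ‹_›
  have : QuasiCompact (snd W T).left := GrpSch.snd_left_of (P := @QuasiCompact) T ‹_›
  exact FFDesc.fpqcCover_of_quasiCompact _

/-- The stability of `W` under left translations by `H`. -/
def LeftStable : Prop :=
  ∀ {T : Over S} (h : T ⟶ H) (w : T ⟶ W), Mem iW ((h ≫ iH) * (w ≫ iW))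

/-- Two points of `W` differ by a point of `H`. -/
def DiffIn : Prop :=
  ∀ {T : Over S} (w w' : T ⟶ W), Mem iH ((w' ≫ iW) * (w ≫ iW)⁻¹)

variable {iH iW}

/-- The stabiliser of the coset `W`. -/
theorem exists_stab (h1 : LeftStable iH iW) (h2 : DiffIn iH iW) :
    ∃ (H' : Over S) (_ : GrpObj H') (i' : H' ⟶ G), IsMonHom i' ∧ IsClosedImmersion i'.left ∧
      ∀ {T : Over S} (w : T ⟶ W) (g : T ⟶ G), Mem i' g ↔ Mem iW ((w ≫ iW) * g) := by
  let m : W ⊗ G ⟶ G := (fst W G ≫ iW) * snd W G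
  have : Flat (snd W G).left := GrpSch.snd_left_of (P := @Flat) G ‹_›
  have : Surjective (snd W G).left := GrpSch.snd_left_of (P := @Surjective) G ‹_›
  have : LocallyOfFinitePresentation (snd W G).left :=
    GrpSch.snd_left_of (P := @LocallyOfFinitePresentation) G ‹_›
  have hkm : ∀ {T : Over S} (k : T ⟶ W ⊗ G), k ≫ m = (k ≫ fst W G ≫ iW) * (k ≫ snd W G) := by
    intro T k
    rw [MonObj.comp_mul]
  obtain ⟨W', j, q, hj, hsq⟩ := GrpSch.exists_closedImmersion_descent (snd W G).left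
    (pullback.fst m.left iW.left) (fun {T} x₀ x₁ e hx => by
      let To : Over S := Over.mk (x₀ ≫ (W ⊗ G).hom)
      let k₀ : To ⟶ W ⊗ G := Over.homMk x₀ rfl
      let k₁ : To ⟶ W ⊗ G := Over.homMk x₁ (by
        change x₁ ≫ (W ⊗ G).hom = x₀ ≫ (W ⊗ G).hom
        rw [← Over.w (snd W G), ← Category.assoc, ← e, Category.assoc])
      have hg : k₀ ≫ snd W G = k₁ ≫ snd W G := Over.OverMorphism.ext e
      obtain ⟨v, hv⟩ := hx
      have hv₀ : Mem iW (k₀ ≫ m) := ⟨Over.homMk (v ≫ pullback.snd _ _) (by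
          rw [← Over.w iW, Category.assoc, ← pullback.condition_assoc, reassoc_of% hv, Over.w m]
          rfl), Over.OverMorphism.ext (by
          show (v ≫ pullback.snd _ _) ≫ iW.left = x₀ ≫ m.left
          rw [Category.assoc, ← pullback.condition, reassoc_of% hv])⟩
      obtain ⟨w₀, hw₀⟩ := hv₀
      obtain ⟨h, hh⟩ := h2 (k₀ ≫ fst W G) (k₁ ≫ fst W G)
      obtain ⟨w₁, hw₁⟩ := h1 h w₀
      have e₁ : w₁ ≫ iW = k₁ ≫ m := by
        rw [hw₁, hh, hw₀, hkm, hkm, hg, Category.assoc, Category.assoc, mul_assoc, inv_mul_cancel_left]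
      exact ⟨pullback.lift x₁ w₁.left (congrArg Over.Hom.left e₁).symm, pullback.lift_fst _ _ _⟩)
  let H' : Over S := Over.mk (j ≫ G.hom)
  let i' : H' ⟶ G := Over.homMk j rfl
  have hi' : IsClosedImmersion i'.left := hj
  have hcrit : ∀ {T : Over S} (w : T ⟶ W) (g : T ⟶ G), Mem i' g ↔ Mem iW ((w ≫ iW) * g) := by
    intro T w g
    have hk : lift w g ≫ m = (w ≫ iW) * g := by rw [hkm, lift_fst_assoc, lift_snd]
    constructor
    · rintro ⟨h, rfl⟩
      let k := lift w (h ≫ i')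
      obtain ⟨z, hz⟩ : ∃ z, z ≫ pullback.fst m.left iW.left = k.left :=
        ⟨hsq.lift k.left h.left (by rw [← Over.comp_left, lift_snd]; rfl), hsq.lift_fst _ _ _⟩
      refine ⟨Over.homMk (z ≫ pullback.snd _ _) ?_, ?_⟩
      · rw [← Over.w iW, Category.assoc, ← pullback.condition_assoc, reassoc_of% hz, Over.w m, Over.w k]
      · rw [← hk]
        refine Over.OverMorphism.ext ?_
        show (z ≫ pullback.snd _ _) ≫ iW.left = k.left ≫ m.left
        rw [Category.assoc, ← pullback.condition, reassoc_of% hz]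
    · rintro ⟨w', hw'⟩
      let z := pullback.lift (lift w g).left w'.left (congrArg Over.Hom.left (hk.trans hw'.symm))
      have hz : (z ≫ q) ≫ j = g.left := by
        rw [Category.assoc, ← hsq.w, ← Category.assoc, pullback.lift_fst, ← Over.comp_left, lift_snd]
      exact ⟨Over.homMk (z ≫ q) (by
        show (z ≫ q) ≫ j ≫ G.hom = T.hom
        rw [← Category.assoc, hz, Over.w]), Over.OverMorphism.ext hz⟩
  have := mono_of_closed i'
  have e1 : ∃ e, e ≫ i' = η[G] := by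
    refine mem_of_cover i' (snd W (𝟙_ _)) (cover_snd _) ((hcrit (fst _ _) _).2 ⟨fst _ _, ?_⟩)
    rw [show η[G] = (1 : 𝟙_ (Over S) ⟶ G) by rw [Hom.one_def, toUnit_unique (toUnit _) (𝟙 _), Category.id_comp],
      MonObj.comp_one, mul_one]
  have e2 : ∃ μ', μ' ≫ i' = (fst H' H' ≫ i') * (snd H' H' ≫ i') := by
    refine mem_of_cover i' (snd W (H' ⊗ H')) (cover_snd _) ((hcrit (fst _ _) _).2 ?_)
    rw [MonObj.comp_mul, ← mul_assoc]
    obtain ⟨w', hw'⟩ := (hcrit (fst W (H' ⊗ H')) (snd W _ ≫ fst H' H' ≫ i')).1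
      ⟨snd W _ ≫ fst H' H', Category.assoc _ _ _⟩
    rw [← hw']
    exact (hcrit w' _).1 ⟨snd W _ ≫ snd H' H', Category.assoc _ _ _⟩
  have e3 : ∃ v, v ≫ i' = i'⁻¹ := by
    obtain ⟨w', hw'⟩ := (hcrit (fst W H') (snd W H' ≫ i')).1 ⟨snd W _, rfl⟩
    refine mem_of_cover i' (snd W H') (cover_snd _) ((hcrit w' _).2 ⟨fst W H', ?_⟩)
    rw [hw', GrpObj.comp_inv, mul_inv_cancel_right]
  obtain ⟨_, hmon⟩ := GrpQ.InfSub.exists_grpObj_of_mono i' e1 e2 e3
  exact ⟨H', inferInstance, i', hmon, hi', hcrit⟩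

/-- If the stabiliser is everything, so is `H`. -/
theorem mem_all_of_stab_all {H' : Over S} {i' : H' ⟶ G}
    (hcrit : ∀ {T : Over S} (w : T ⟶ W) (g : T ⟶ G), Mem i' g ↔ Mem iW ((w ≫ iW) * g))
    (hall : ∀ {T : Over S} (g : T ⟶ G), Mem i' g) (h2 : DiffIn iH iW) {T : Over S} (g : T ⟶ G) :
    Mem iH g := by
  have hW : ∀ {T : Over S} (g : T ⟶ G), Mem iW g := fun {T} g => by
    refine mem_of_cover iW (snd W T) (cover_snd _) ?_
    have := (hcrit (fst W T) ((fst W T ≫ iW)⁻¹ * (snd W T ≫ g))).1 (hall _)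
    rwa [mul_inv_cancel_left] at this
  obtain ⟨w, hw⟩ := hW (1 : T ⟶ G)
  obtain ⟨w', hw'⟩ := hW g
  have h := h2 w w'
  rwa [hw, hw', inv_one, mul_one] at h

/-- The reduction of a torsor to the stabiliser. -/
theorem exists_stab_torsor {H' : Over S} [GrpObj H'] {i' : H' ⟶ G} [IsMonHom i'] [IsClosedImmersion i'.left]
    (hcrit : ∀ {T : Over S} (w : T ⟶ W) (g : T ⟶ G), Mem i' g ↔ Mem iW ((w ≫ iW) * g))
    (h1 : LeftStable iH iW) (h2 : DiffIn iH iW)
    {T V : Over S} {b : AlgGrp.Action G T} (hb : NonAbH1.IsPseudoTorsorSch b) {c : AlgGrp.Action H V}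
    (hc : NonAbH1.IsPseudoTorsorSch c) [Flat V.hom] [Surjective V.hom] [QuasiCompact V.hom]
    (j : V ⟶ T) [IsClosedImmersion j.left]
    (hj : ∀ {Z : Over S} (h : Z ⟶ H) (v : Z ⟶ V),
      (lift h v ≫ c.act) ≫ j = lift (h ≫ iH) (v ≫ j) ≫ b.act) :
    ∃ (V' : Over S) (j' : V' ⟶ T) (c' : AlgGrp.Action H' V'), IsClosedImmersion j'.left ∧
      NonAbH1.IsTorsorFor Scheme.fpqcPrecoverage c' ∧
      (∀ {Z : Over S} (h : Z ⟶ H') (v : Z ⟶ V'), (lift h v ≫ c'.act) ≫ j' = lift (h ≫ i') (v ≫ j') ≫ b.act) ∧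
      ∀ {Z : Over S} (w : Z ⟶ W) (τ : Z ⟶ T), Mem j' τ ↔ Mem j (lift (w ≫ iW) τ ≫ b.act) := by
  let m : W ⊗ T ⟶ T := lift (fst W T ≫ iW) (snd W T) ≫ b.act
  have : Flat (snd W T).left := GrpSch.snd_left_of (P := @Flat) T ‹_›
  have : Surjective (snd W T).left := GrpSch.snd_left_of (P := @Surjective) T ‹_›
  have : LocallyOfFinitePresentation (snd W T).left :=
    GrpSch.snd_left_of (P := @LocallyOfFinitePresentation) T ‹_›
  have hkm : ∀ {Z : Over S} (k : Z ⟶ W ⊗ T), k ≫ m = lift (k ≫ fst W T ≫ iW) (k ≫ snd W T) ≫ b.act := by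
    intro Z k
    rw [comp_lift_assoc]
  obtain ⟨V'', j₀, q, hj₀, hsq⟩ := GrpSch.exists_closedImmersion_descent (snd W T).left
    (pullback.fst m.left j.left) (fun {Z₀} x₀ x₁ e hx => by
      let To : Over S := Over.mk (x₀ ≫ (W ⊗ T).hom)
      let k₀ : To ⟶ W ⊗ T := Over.homMk x₀ rfl
      let k₁ : To ⟶ W ⊗ T := Over.homMk x₁ (by
        change x₁ ≫ (W ⊗ T).hom = x₀ ≫ (W ⊗ T).hom
        rw [← Over.w (snd W T), ← Category.assoc, ← e, Category.assoc])
      have hg : k₀ ≫ snd W T = k₁ ≫ snd W T := Over.OverMorphism.ext e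
      obtain ⟨v, hv⟩ := hx
      have hv₀ : Mem j (k₀ ≫ m) := ⟨Over.homMk (v ≫ pullback.snd _ _) (by
          rw [← Over.w j, Category.assoc, ← pullback.condition_assoc, reassoc_of% hv, Over.w m]
          rfl), Over.OverMorphism.ext (by
          show (v ≫ pullback.snd _ _) ≫ j.left = x₀ ≫ m.left
          rw [Category.assoc, ← pullback.condition, reassoc_of% hv])⟩
      obtain ⟨v₀, hv₀⟩ := hv₀
      obtain ⟨h, hh⟩ := h2 (k₀ ≫ fst W T) (k₁ ≫ fst W T)
      have e₁ : (lift h v₀ ≫ c.act) ≫ j = k₁ ≫ m := by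
        rw [hj, hv₀, hkm, hkm, hg, ← GrpSch.act_mul, hh, Category.assoc, Category.assoc, inv_mul_cancel_right]
      exact ⟨pullback.lift x₁ (lift h v₀ ≫ c.act).left (congrArg Over.Hom.left e₁).symm, pullback.lift_fst _ _ _⟩)
  let V' : Over S := Over.mk (j₀ ≫ T.hom)
  let j' : V' ⟶ T := Over.homMk j₀ rfl
  have hj' : IsClosedImmersion j'.left := hj₀
  have hmem : ∀ {Z : Over S} (w : Z ⟶ W) (τ : Z ⟶ T), Mem j' τ ↔ Mem j (lift (w ≫ iW) τ ≫ b.act) := by
    intro Z w τ
    have hk : lift w τ ≫ m = lift (w ≫ iW) τ ≫ b.act := by rw [hkm, lift_fst_assoc, lift_snd]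
    constructor
    · rintro ⟨h, rfl⟩
      let k := lift w (h ≫ j')
      obtain ⟨z, hz⟩ : ∃ z, z ≫ pullback.fst m.left j.left = k.left :=
        ⟨hsq.lift k.left h.left (by rw [← Over.comp_left, lift_snd]; rfl), hsq.lift_fst _ _ _⟩
      refine ⟨Over.homMk (z ≫ pullback.snd _ _) ?_, ?_⟩
      · rw [← Over.w j, Category.assoc, ← pullback.condition_assoc, reassoc_of% hz, Over.w m, Over.w k]
      · rw [← hk]
        refine Over.OverMorphism.ext ?_
        show (z ≫ pullback.snd _ _) ≫ j.left = k.left ≫ m.left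
        rw [Category.assoc, ← pullback.condition, reassoc_of% hz]
    · rintro ⟨v, hv⟩
      let z := pullback.lift (lift w τ).left v.left (congrArg Over.Hom.left (hk.trans hv.symm))
      have hz : (z ≫ q) ≫ j₀ = τ.left := by
        rw [Category.assoc, ← hsq.w, ← Category.assoc, pullback.lift_fst, ← Over.comp_left, lift_snd]
      exact ⟨Over.homMk (z ≫ q) (by
        show (z ≫ q) ≫ j₀ ≫ T.hom = Z.hom
        rw [← Category.assoc, hz, Over.w]), Over.OverMorphism.ext hz⟩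
  have := mono_of_closed j'
  have := mono_of_closed i'
  obtain ⟨act, hact⟩ : Mem j' (lift (fst H' V' ≫ i') (snd H' V' ≫ j') ≫ b.act) := by
    refine mem_of_cover j' (snd W (H' ⊗ V')) (cover_snd _) ((hmem (fst _ _) _).2 ?_)
    obtain ⟨w', hw'⟩ := (hcrit (fst W (H' ⊗ V')) (snd W _ ≫ fst H' V' ≫ i')).1
      ⟨snd W _ ≫ fst H' V', Category.assoc _ _ _⟩
    rw [comp_lift_assoc, ← GrpSch.act_mul, ← hw']
    exact (hmem w' _).1 ⟨snd W _ ≫ snd H' V', Category.assoc _ _ _⟩
  have hA : ∀ {Z : Over S} (h : Z ⟶ H') (v : Z ⟶ V'),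
      (lift h v ≫ act) ≫ j' = lift (h ≫ i') (v ≫ j') ≫ b.act := by
    intro Z h v
    rw [Category.assoc, hact, comp_lift_assoc, lift_fst_assoc, lift_snd_assoc]
  let c' : AlgGrp.Action H' V' :=
    { act := act
      one_act := by
        rw [← cancel_mono j', Category.assoc, hact, comp_lift_assoc, whiskerRight_fst_assoc,
          whiskerRight_snd_assoc, IsMonHom.one_hom, leftUnitor_hom]
        rw [show fst (𝟙_ (Over S)) V' ≫ η[G] = 1 by rw [Hom.one_def, toUnit_unique (toUnit _) (fst _ _)],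
          GrpSch.act_one]
      mul_act := by
        refine AlgGrp.Action.hom_ext_lift₃ ?_
        intro Z h h' v
        rw [lift_whiskerRight_assoc, ← Hom.mul_def, lift_lift_associator_hom_assoc, lift_whiskerLeft_assoc,
          ← cancel_mono j', hA, hA, hA, MonObj.mul_comp, GrpSch.act_mul] }
  refine ⟨V', j', c', hj', ⟨TorsorSch.FibreProd.pseudo_of_existsUnique fun {Z} x y => ?_, ?_⟩, hA, hmem⟩
  · obtain ⟨g, hg, hgu⟩ := TorsorSch.FibreProd.existsUnique_of_pseudo hb (x ≫ j') (y ≫ j')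
    obtain ⟨h, hh⟩ : Mem i' g := by
      refine mem_of_cover i' (snd W Z) (cover_snd _) ((hcrit (fst _ _) _).2 ?_)
      obtain ⟨v, hv⟩ := (hmem (fst W Z) (snd W Z ≫ x ≫ j')).1 ⟨snd W Z ≫ x, Category.assoc _ _ _⟩
      obtain ⟨v', hv'⟩ := (hmem (fst W Z) (snd W Z ≫ y ≫ j')).1 ⟨snd W Z ≫ y, Category.assoc _ _ _⟩
      obtain ⟨h, hh, -⟩ := TorsorSch.FibreProd.existsUnique_of_pseudo hc v v'
      obtain ⟨w', hw'⟩ := h1 h (fst W Z)
      refine ⟨w', ?_⟩
      rw [hw']
      refine (TorsorSch.FibreProd.existsUnique_of_pseudo hb (snd W Z ≫ x ≫ j')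
        (lift (fst W Z ≫ iW) (snd W Z ≫ y ≫ j') ≫ b.act)).unique ?_ ?_
      · rw [GrpSch.act_mul, ← hv, ← hj, hh, hv']
      · rw [GrpSch.act_mul, ← hg, comp_lift_assoc]
    refine ⟨h, ?_, fun h' hh' => ?_⟩
    · show lift h x ≫ act = y
      rw [← cancel_mono j', hA, hh, hg]
    · rw [← cancel_mono i', hh]
      refine hgu _ ?_
      show lift (h' ≫ i') (x ≫ j') ≫ b.act = y ≫ j'
      rw [← hA, show lift h' x ≫ act = y from hh']
  · have : Flat (V ⊗ W).hom := by
      rw [← Over.w (fst V W)]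
      have : Flat (fst V W).left := GrpSch.fst_left_of (P := @Flat) V ‹_›
      infer_instance
    have : Surjective (V ⊗ W).hom := by
      rw [← Over.w (fst V W)]
      have : Surjective (fst V W).left := GrpSch.fst_left_of (P := @Surjective) V ‹_›
      infer_instance
    have : QuasiCompact (V ⊗ W).hom := by
      rw [← Over.w (fst V W)]
      have : QuasiCompact (fst V W).left := GrpSch.fst_left_of (P := @QuasiCompact) V ‹_›
      infer_instance
    refine ⟨Presieve.singleton (V ⊗ W).hom, (V ⊗ W).hom.singleton_mem_fpqcPrecoverage, ?_⟩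
    rintro Z g ⟨⟩
    obtain ⟨s, hs⟩ := (hmem (snd V W) (lift (snd V W ≫ iW)⁻¹ (fst V W ≫ j) ≫ b.act)).2
      ⟨fst V W, by rw [← GrpSch.act_mul, mul_inv_cancel, GrpSch.act_one]⟩
    exact ⟨s.left, Over.w s⟩

end Groth.Agent.Lib.NoriFGS
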