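import Groth.Agent.Lib.NoriFGS.Basic
import Groth.Agent.Lib.NoriFGS.Stab
import Groth.Agent.Lib.SekSuwaTors.Transfer

/-!
# The push-forward of the universal torsor along a dominant homomorphism is Nori-reduced

A reduction of the push-forward to a closed subgroup `H` cuts a coset `W` of `H` on the fibre over the
base point, possibly without rational point; the stabiliser of `W` receives a pointed torsor, so it is
everything by universality, and so is `H`.
-/

set_option autoImplicit false
set_option linter.style.haveILetI false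
set_option linter.unusedSectionVars false

noncomputable section

universe u

open CategoryTheory CategoryTheory.Limits MonoidalCategory CartesianMonoidalCategory AlgebraicGeometry
open scoped MonObj GrpObj

namespace Groth.Agent.Lib.NoriFGS

open _root_.NoriFGS Groth.Agent.Lib.RedPts

variable {k : Type u} [Field k] {X : Scheme.{u}} [X.Over (Spec (CommRingCat.of k))]

section Fibre

variable (x : Spec (CommRingCat.of k) ⟶ X)

/-- A scheme over the field as a scheme over `X` through the point `x`. -/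
abbrev atPt (S : Over (Spec (CommRingCat.of k))) : Over X := (Over.map x).obj S

variable {x} (hx : x ≫ (X ↘ Spec (CommRingCat.of k)) = 𝟙 _) {G : Over (Spec (CommRingCat.of k))}

/-- A point of `G` as a point of its base change over the point `x`. -/
def upx {S : Over (Spec (CommRingCat.of k))} (g : S ⟶ G) : atPt x S ⟶ Red.bc (X ↘ Spec (CommRingCat.of k)) G :=
  BC.up _ (Over.homMk g.left (by
    show g.left ≫ G.hom = (S.hom ≫ x) ≫ (X ↘ Spec (CommRingCat.of k))
    rw [Category.assoc, hx, Category.comp_id, Over.w]))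

theorem upx_comp {S S' : Over (Spec (CommRingCat.of k))} (h : S' ⟶ S) (g : S ⟶ G) :
    upx hx (h ≫ g) = (Over.map x).map h ≫ upx hx g := by
  refine BC.down_injective ?_
  rw [BC.down_comp, upx, upx, BC.down_up, BC.down_up]
  exact Over.OverMorphism.ext rfl

theorem upx_map {G' : Over (Spec (CommRingCat.of k))} {S : Over (Spec (CommRingCat.of k))} (g : S ⟶ G)
    (φ : G ⟶ G') : upx hx (g ≫ φ) = upx hx g ≫ (Over.pullback (X ↘ Spec (CommRingCat.of k))).map φ := by
  refine BC.down_injective ?_
  rw [BC.down_map, upx, upx, BC.down_up, BC.down_up]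
  exact Over.OverMorphism.ext rfl

theorem upx_injective {S : Over (Spec (CommRingCat.of k))} :
    Function.Injective (upx hx : (S ⟶ G) → _) := fun g g' h => by
  have h' := congrArg (fun z => (BC.down _ z).left) h
  simp only [upx, BC.down_up] at h'
  exact Over.OverMorphism.ext h'

theorem exists_upx {S : Over (Spec (CommRingCat.of k))}
    (z : atPt x S ⟶ Red.bc (X ↘ Spec (CommRingCat.of k)) G) : ∃ g : S ⟶ G, upx hx g = z := by
  refine ⟨Over.homMk (BC.down _ z).left ?_, ?_⟩
  · rw [Over.w (BC.down _ z)]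
    show (S.hom ≫ x) ≫ (X ↘ Spec (CommRingCat.of k)) = S.hom
    rw [Category.assoc, hx, Category.comp_id]
  · refine BC.down_injective ?_
    rw [upx, BC.down_up]
    exact Over.OverMorphism.ext rfl

theorem upx_mul [GrpObj G] {S : Over (Spec (CommRingCat.of k))} (g g' : S ⟶ G) :
    upx hx (g * g') = upx hx g * upx hx g' := by
  let e : (Over.map (X ↘ Spec (CommRingCat.of k))).obj (atPt x S) ⟶ S := Over.homMk (𝟙 S.left) (by
    show 𝟙 S.left ≫ S.hom = (S.hom ≫ x) ≫ (X ↘ Spec (CommRingCat.of k))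
    rw [Category.id_comp, Category.assoc, hx, Category.comp_id])
  have he : ∀ z : S ⟶ G, upx hx z = BC.up _ (e ≫ z) := fun z =>
    congrArg (BC.up _) (Over.OverMorphism.ext (Category.id_comp _).symm)
  rw [he, he, he, MonObj.comp_mul, BC.up_mul]

variable [GrpObj G] {T : Over X} (b : AlgGrp.Action (Red.bc (X ↘ Spec (CommRingCat.of k)) G) T)
  {t : Spec (CommRingCat.of k) ⟶ T.left} (ht : t ≫ T.hom = x)

/-- The marked point, over any scheme over the field. -/
def tS (S : Over (Spec (CommRingCat.of k))) : atPt x S ⟶ T :=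
  Over.homMk (S.hom ≫ t) (by rw [Category.assoc, ht]; rfl)

theorem map_tS {S S' : Over (Spec (CommRingCat.of k))} (h : S' ⟶ S) :
    (Over.map x).map h ≫ tS ht S = tS ht S' :=
  Over.OverMorphism.ext (show h.left ≫ S.hom ≫ t = S'.hom ≫ t by rw [← Category.assoc, Over.w])

/-- The orbit map of the marked point. -/
def orb {S : Over (Spec (CommRingCat.of k))} (g : S ⟶ G) : atPt x S ⟶ T :=
  lift (upx hx g) (tS ht S) ≫ b.act

theorem orb_comp {S S' : Over (Spec (CommRingCat.of k))} (h : S' ⟶ S) (g : S ⟶ G) :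
    orb hx b ht (h ≫ g) = (Over.map x).map h ≫ orb hx b ht g := by
  rw [orb, orb, comp_lift_assoc, ← upx_comp, map_tS]

theorem orb_mul {S : Over (Spec (CommRingCat.of k))} (g g' : S ⟶ G) :
    orb hx b ht (g * g') = lift (upx hx g) (orb hx b ht g') ≫ b.act := by
  rw [orb, orb, upx_mul, GrpSch.act_mul]

theorem orb_injective (hb : NonAbH1.IsPseudoTorsorSch b) {S : Over (Spec (CommRingCat.of k))} {g g' : S ⟶ G}
    (h : orb hx b ht g = orb hx b ht g') : g = g' :=
  upx_injective hx ((TorsorSch.FibreProd.existsUnique_of_pseudo hb (tS ht S) _).unique h rfl)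

variable {H : Over (Spec (CommRingCat.of k))} [GrpObj H] (iH : H ⟶ G) [IsMonHom iH]
  {V : Over X} {c : AlgGrp.Action (Red.bc (X ↘ Spec (CommRingCat.of k)) H) V} (j : V ⟶ T)
  [IsClosedImmersion j.left]

/-- The coset cut by a reduction on the fibre over the base point. -/
theorem exists_coset [IsFinite G.hom] (hb : NonAbH1.IsPseudoTorsorSch b) (hc : NonAbH1.IsPseudoTorsorSch c)
    [Surjective V.hom]
    (hj : ∀ {Z : Over X} (h : Z ⟶ Red.bc (X ↘ Spec (CommRingCat.of k)) H) (v : Z ⟶ V),
      (lift h v ≫ c.act) ≫ j = lift (h ≫ (Over.pullback (X ↘ Spec (CommRingCat.of k))).map iH) (v ≫ j) ≫ b.act) :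
    ∃ (W : Over (Spec (CommRingCat.of k))) (iW : W ⟶ G), IsClosedImmersion iW.left ∧ Surjective W.hom ∧
      IsFinite W.hom ∧ LeftStable iH iW ∧ DiffIn iH iW ∧
      ∀ {S : Over (Spec (CommRingCat.of k))} (g : S ⟶ G), Mem iW g ↔ Mem j (orb hx b ht g) := by
  let o := orb hx b ht (𝟙 G)
  let W : Over (Spec (CommRingCat.of k)) := Over.mk (pullback.fst o.left j.left ≫ G.hom)
  let iW : W ⟶ G := Over.homMk (pullback.fst o.left j.left) rfl
  have hiW : IsClosedImmersion iW.left := inferInstanceAs (IsClosedImmersion (pullback.fst o.left j.left))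
  have horb : ∀ {S : Over (Spec (CommRingCat.of k))} (g : S ⟶ G), orb hx b ht g = (Over.map x).map g ≫ o := by
    intro S g
    rw [← orb_comp, Category.comp_id]
  have hmem : ∀ {S : Over (Spec (CommRingCat.of k))} (g : S ⟶ G), Mem iW g ↔ Mem j (orb hx b ht g) := by
    intro S g
    rw [horb g]
    constructor
    · rintro ⟨w, rfl⟩
      let v : atPt x S ⟶ V := Over.homMk (w.left ≫ pullback.snd o.left j.left) (by
        rw [← Over.w j, Category.assoc, ← pullback.condition_assoc, Over.w o]
        show w.left ≫ pullback.fst o.left j.left ≫ G.hom ≫ x = S.hom ≫ x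
        rw [← Over.w w]
        simp only [W, Over.mk_hom, Category.assoc])
      exact ⟨v, Over.OverMorphism.ext (show (w.left ≫ pullback.snd o.left j.left) ≫ j.left =
        (w.left ≫ pullback.fst o.left j.left) ≫ o.left by rw [Category.assoc, Category.assoc, pullback.condition])⟩
    · rintro ⟨v, hv⟩
      refine ⟨Over.homMk (pullback.lift g.left v.left (congrArg Over.Hom.left hv).symm) ?_, ?_⟩
      · show _ ≫ pullback.fst o.left j.left ≫ G.hom = S.hom
        rw [pullback.lift_fst_assoc, Over.w]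
      · exact Over.OverMorphism.ext (pullback.lift_fst _ _ _)
  have hfin : IsFinite W.hom := inferInstanceAs (IsFinite (pullback.fst o.left j.left ≫ G.hom))
  have hsurj : Surjective W.hom := by
    let Z : Over (Spec (CommRingCat.of k)) := Over.mk (pullback.snd V.hom x)
    let vx : atPt x Z ⟶ V := Over.homMk (pullback.fst V.hom x) pullback.condition
    obtain ⟨gx, hgx, -⟩ := TorsorSch.FibreProd.existsUnique_of_pseudo hb (tS ht Z) (vx ≫ j)
    obtain ⟨g, rfl⟩ := exists_upx hx gx
    obtain ⟨w, -⟩ := (hmem g).2 ⟨vx, hgx.symm⟩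
    have : Surjective (pullback.snd V.hom x) := MorphismProperty.pullback_snd _ _ ‹_›
    refine ⟨fun s => ?_⟩
    obtain ⟨z, hz⟩ := (pullback.snd V.hom x).surjective s
    refine ⟨w.left z, ?_⟩
    exact (congr($(Over.w w) z)).trans hz
  refine ⟨W, iW, hiW, hsurj, hfin, fun {S} h w => ?_, fun {S} w w' => ?_, hmem⟩
  · obtain ⟨v, hv⟩ := (hmem (w ≫ iW)).1 ⟨w, rfl⟩
    refine (hmem _).2 ⟨lift (upx hx h) v ≫ c.act, ?_⟩
    rw [hj, orb_mul, hv, upx_map]
  · obtain ⟨v, hv⟩ := (hmem (w ≫ iW)).1 ⟨w, rfl⟩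
    obtain ⟨v', hv'⟩ := (hmem (w' ≫ iW)).1 ⟨w', rfl⟩
    obtain ⟨hX, hhX, -⟩ := TorsorSch.FibreProd.existsUnique_of_pseudo hc v v'
    obtain ⟨h, rfl⟩ := exists_upx hx hX
    refine ⟨h, ?_⟩
    rw [eq_mul_inv_iff_mul_eq]
    refine orb_injective hx b ht hb ?_
    rw [orb_mul, upx_map, ← hv, ← hj, hhX, hv']

end Fibre

/-- The push-forward of the universal torsor along a schematically dominant homomorphism to a finite
group is Nori-reduced. -/
theorem isNoriReduced_of_std {x : Spec (CommRingCat.of k) ⟶ X} (hx : x ≫ (X ↘ Spec (CommRingCat.of k)) = 𝟙 _)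
    {πN : Over (Spec (CommRingCat.of k))} [GrpObj πN] {P : Over X}
    {a : AlgGrp.Action (Red.bc (X ↘ Spec (CommRingCat.of k)) πN) P} {p : Spec (CommRingCat.of k) ⟶ P.left}
    (hP : IsFGS x πN a p) {G : Over (Spec (CommRingCat.of k))} [GrpObj G] [IsFinite G.hom]
    {φ : πN ⟶ G} [IsMonHom φ] [IsSchemeTheoreticallyDominant φ.left] {T : Over X}
    {b : AlgGrp.Action (Red.bc (X ↘ Spec (CommRingCat.of k)) G) T} {t : Spec (CommRingCat.of k) ⟶ T.left}
    (hb : NonAbH1.IsTorsorFor Scheme.fpqcPrecoverage b) (ht : t ≫ T.hom = x) {f : P ⟶ T}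
    (hf : IsPtTorsorHom a p b t φ f) : IsNoriReduced Scheme.fpqcPrecoverage b := by
  intro H _ iH _ _ V j _ c hc hj₀
  let p' := X ↘ Spec (CommRingCat.of k)
  have : IsFinite H.hom := by rw [← Over.w iH]; infer_instance
  obtain ⟨hVa, hVf, hVs, -⟩ := torsor_props hc
  have hj : ∀ {Z : Over X} (h : Z ⟶ Red.bc p' H) (v : Z ⟶ V),
      (lift h v ≫ c.act) ≫ j = lift (h ≫ (Over.pullback p').map iH) (v ≫ j) ≫ b.act := by
    intro Z h v
    rw [Category.assoc, show c.act ≫ j = _ from hj₀, lift_whiskerLeft_assoc, AlgGrp.Action.lift_restrict_act]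
  obtain ⟨W, iW, hiW, hWs, hWfin, h1, h2, hmemW⟩ := exists_coset hx b ht iH j hb.1 hc.1 hj
  have := flat_hom W
  have : LocallyOfFinitePresentation W.hom :=
    haveI : IsAffine W.left := isAffine_of_isAffineHom W.hom
    (HasRingHomProperty.iff_of_isAffine (P := @LocallyOfFinitePresentation) (f := W.hom)).2
      (haveI : IsNoetherianRing Γ(Spec (CommRingCat.of k), ⊤) :=
        isNoetherianRing_of_ringEquiv k (Scheme.ΓSpecIso (CommRingCat.of k)).commRingCatIsoToRingEquiv.symm
      RingHom.FinitePresentation.of_finiteType.1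
        ((HasRingHomProperty.iff_of_isAffine (P := @LocallyOfFiniteType) (f := W.hom)).1 inferInstance))
  -- the stabiliser over the field
  obtain ⟨H', _, i', hi'm, hi'c, hcrit⟩ := exists_stab h1 h2
  have : IsFinite H'.hom := by rw [← Over.w i']; infer_instance
  -- the same data over `X`
  let iHX := (Over.pullback p').map iH
  let iWX : Red.bc p' W ⟶ Red.bc p' G := (Over.pullback p').map iW
  let iX' : Red.bc p' H' ⟶ Red.bc p' G := (Over.pullback p').map i'
  have hcl : ∀ {A B : Over (Spec (CommRingCat.of k))} (i : A ⟶ B), IsClosedImmersion i.left →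
      IsClosedImmersion ((Over.pullback p').map i).left := fun {A B} i h =>
    MorphismProperty.overPullbackMap (P := @IsClosedImmersion) p' i h
  have := hcl iW hiW
  have := hcl i' hi'c
  have hbcmem : ∀ {A : Over (Spec (CommRingCat.of k))} (i : A ⟶ G) {Z : Over X} (g : Z ⟶ Red.bc p' G),
      Mem ((Over.pullback p').map i) g ↔ Mem i (BC.down p' g) := by
    intro A i Z g
    constructor
    · rintro ⟨v, rfl⟩; exact ⟨BC.down p' v, (BC.down_map _ _).symm⟩
    · rintro ⟨v, hv⟩; exact ⟨BC.up p' v, BC.down_injective (by rw [BC.down_map, BC.down_up, hv])⟩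
  have : Flat (Red.bc p' W).hom := MorphismProperty.pullback_snd (P := @Flat) _ p' ‹_›
  have : Surjective (Red.bc p' W).hom := MorphismProperty.pullback_snd (P := @Surjective) _ p' ‹_›
  have : LocallyOfFinitePresentation (Red.bc p' W).hom :=
    MorphismProperty.pullback_snd (P := @LocallyOfFinitePresentation) _ p' ‹_›
  have : QuasiCompact (Red.bc p' W).hom := MorphismProperty.pullback_snd (P := @QuasiCompact) _ p' inferInstance
  have h1X : LeftStable iHX iWX := fun {Z} h w => by
    rw [hbcmem iW, BC.down_mul, BC.down_map, BC.down_map]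
    exact h1 _ _
  have h2X : DiffIn iHX iWX := fun {Z} w w' => by
    rw [hbcmem iH, BC.down_mul, BC.down_inv, BC.down_map, BC.down_map]
    exact h2 _ _
  have hcritX : ∀ {Z : Over X} (w : Z ⟶ Red.bc p' W) (g : Z ⟶ Red.bc p' G),
      Mem iX' g ↔ Mem iWX ((w ≫ iWX) * g) := by
    intro Z w g
    rw [hbcmem i', hbcmem iW, BC.down_mul, BC.down_map]
    exact hcrit _ _
  -- the pointed reduction to the stabiliser
  obtain ⟨V', j', c', hj'c, hV', hj', hmem'⟩ := exists_stab_torsor hcritX h1X h2X hb.1 hc.1 j hj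
  obtain ⟨t', ht'⟩ : Mem j' (tS (x := x) ht (𝟙_ (Over (Spec (CommRingCat.of k))))) := by
    refine mem_of_cover j' ((Over.map x).map (toUnit W)) ?_ ?_
    · have : Flat (toUnit W).left := by simpa using flat_hom W
      have : Surjective (toUnit W).left := by simpa using hWs
      have : QuasiCompact (toUnit W).left := by simpa using (inferInstance : QuasiCompact W.hom)
      exact FFDesc.fpqcCover_of_quasiCompact (toUnit W).left
    · rw [map_tS, hmem' (upx hx (𝟙 W)), ← upx_map, Category.id_comp]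
      exact (hmemW iW).1 ⟨𝟙 W, Category.id_comp _⟩
  have ht'' : t'.left ≫ V'.hom = x := by
    rw [Over.w t']
    exact Category.id_comp x
  obtain ⟨ψ, _, h, hh, -⟩ := hP.2.2.2 H' V' c' t'.left hV' ht''
  have hhom : IsPtTorsorHom c' t'.left b t i' j' := by
    refine ⟨?_, ?_⟩
    · refine AlgGrp.Action.hom_ext_lift₂ ?_
      intro Z z w
      rw [← Category.assoc, hj', lift_whiskerLeft_assoc, AlgGrp.Action.lift_restrict_act]
    · exact (congrArg Over.Hom.left ht').trans (Category.id_comp t)
  obtain ⟨φ₀, _, f₀, -, huniq⟩ := hP.2.2.2 G T b t hb ht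
  have hφ : ψ ≫ i' = φ := (huniq _ _ (isPtTorsorHom_comp hh hhom)).1.trans (huniq _ _ hf).1.symm
  -- so the stabiliser is everything
  have hall : ∀ {Z : Over (Spec (CommRingCat.of k))} (g : Z ⟶ G), Mem i' g := by
    intro Z g
    have H0 : i'.left.ker ≤ (𝟙 G.left : G.left ⟶ G.left).ker := by
      have e : i'.left.ker ≤ φ.left.ker := by
        rw [← hφ, Over.comp_left]; exact Scheme.Hom.le_ker_comp _ _
      rw [φ.left.ker_eq_bot] at e
      exact e.trans bot_le
    obtain ⟨v, hv⟩ : ∃ v : G ⟶ H', v ≫ i' = 𝟙 G := ⟨Over.homMk (IsClosedImmersion.lift i'.left (𝟙 G.left) H0) (by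
      rw [← Over.w i', IsClosedImmersion.lift_fac_assoc, Category.id_comp]),
      Over.OverMorphism.ext (IsClosedImmersion.lift_fac _ _ _)⟩
    exact ⟨g ≫ v, by rw [Category.assoc, hv, Category.comp_id]⟩
  obtain ⟨s, hs⟩ := mem_all_of_stab_all hcrit hall h2 (𝟙 G)
  have := mono_of_closed iH
  have : IsIso iH := ⟨s, by rw [← cancel_mono iH, Category.assoc, hs, Category.comp_id, Category.id_comp], hs⟩
  have := SekSuwaTors.isIso_whiskerRight_of_push (T := 𝟙_ (Over X)) iHX hc hb.1 j (by
    refine AlgGrp.Action.hom_ext_lift₂ ?_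
    intro Z z w
    rw [← Category.assoc, hj, comp_lift_assoc, lift_fst_assoc, lift_snd_assoc])
  have e : j = (ρ_ V).inv ≫ (j ▷ 𝟙_ (Over X)) ≫ (ρ_ T).hom := by simp
  rw [e]
  infer_instance

end Groth.Agent.Lib.NoriFGS
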