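import Groth.Agent.Lib.NoriFGS.Induced

/-!
# When the induced homomorphism is trivial
-/

set_option autoImplicit false
set_option linter.style.haveILetI false
set_option linter.unusedSectionVars false

noncomputable section

universe u

open CategoryTheory CategoryTheory.Limits MonoidalCategory CartesianMonoidalCategory AlgebraicGeometry
open scoped MonObj GrpObj

namespace Groth.Agent.Lib.NoriFGS

open _root_.NoriFGS Groth.Agent.Lib.RedPts

variable {k : Type u} [Field k] {X Y : Scheme.{u}} [X.Over (Spec (CommRingCat.of k))]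
  [Y.Over (Spec (CommRingCat.of k))] {f : X ⟶ Y}
  {hf : f ≫ (Y ↘ Spec (CommRingCat.of k)) = X ↘ Spec (CommRingCat.of k)}

theorem isMonHom_one {G G' : Over (Spec (CommRingCat.of k))} [GrpObj G] [GrpObj G'] :
    IsMonHom (1 : G ⟶ G') where
  one_hom := by rw [MonObj.comp_one, Hom.one_def, toUnit_unique (toUnit _) (𝟙 _), Category.id_comp]
  mul_hom := by
    rw [MonObj.comp_one, show ((1 : G ⟶ G') ⊗ₘ (1 : G ⟶ G')) = lift 1 1 by
      apply CartesianMonoidalCategory.hom_ext <;> simp [MonObj.comp_one], ← Hom.mul_def, one_mul]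

theorem comp_map_one {G G' : Over (Spec (CommRingCat.of k))} [GrpObj G] [GrpObj G'] {Z : Over X}
    (g : Z ⟶ Red.bc (X ↘ Spec (CommRingCat.of k)) G) :
    g ≫ (Over.pullback (X ↘ Spec (CommRingCat.of k))).map (1 : G ⟶ G') = 1 :=
  BC.down_injective (by rw [BC.down_map, MonObj.comp_one, BC.down_one])

/-- A morphism of pointed torsors along the trivial homomorphism gives a section. -/
theorem exists_section_of_trivial {G G' : Over (Spec (CommRingCat.of k))} [GrpObj G] [IsAffineHom G.hom] [GrpObj G']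
    {P T : Over X} {a : AlgGrp.Action (Red.bc (X ↘ Spec (CommRingCat.of k)) G) P}
    {b : AlgGrp.Action (Red.bc (X ↘ Spec (CommRingCat.of k)) G') T}
    {p : Spec (CommRingCat.of k) ⟶ P.left} {t : Spec (CommRingCat.of k) ⟶ T.left}
    (ha : NonAbH1.IsTorsorFor Scheme.fpqcPrecoverage a) {φ : G ⟶ G'} [IsMonHom φ] (hφ : φ = 1)
    {m : P ⟶ T} (hm : IsPtTorsorHom a p b t φ m) :
    ∃ σ : X ⟶ T.left, σ ≫ T.hom = 𝟙 X := by
  obtain ⟨_, _, _, -⟩ := torsor_props ha
  have hall : ∀ {Z : Scheme.{u}} (g₁ g₂ : Z ⟶ P.left), g₁ ≫ P.hom = g₂ ≫ P.hom → g₁ ≫ m.left = g₂ ≫ m.left := by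
    intro Z g₁ g₂ e
    let x₁ : Over.mk (g₁ ≫ P.hom) ⟶ P := Over.homMk g₁ rfl
    let x₂ : Over.mk (g₁ ≫ P.hom) ⟶ P := Over.homMk g₂ e.symm
    obtain ⟨g, hg, -⟩ := TorsorSch.FibreProd.existsUnique_of_pseudo ha.1 x₁ x₂
    have h := ptTorsorHom_act hm g x₁
    rw [hg] at h
    subst hφ
    rw [comp_map_one, GrpSch.act_one] at h
    exact (congrArg Over.Hom.left h).symm
  refine ⟨EffectiveEpi.desc P.hom m.left hall, ?_⟩
  rw [← cancel_epi P.hom, EffectiveEpi.fac_assoc, Over.w]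
  exact (Category.comp_id _).symm

variable {x : Spec (CommRingCat.of k) ⟶ X} {y : Spec (CommRingCat.of k) ⟶ Y}
  (hx : x ≫ (X ↘ Spec (CommRingCat.of k)) = 𝟙 _) (hy : y ≫ (Y ↘ Spec (CommRingCat.of k)) = 𝟙 _)
  (hfx : x ≫ f = y) {πX πY : Over (Spec (CommRingCat.of k))} [GrpObj πX] [GrpObj πY] {PX : Over X} {PY : Over Y}
  {aX : AlgGrp.Action (Red.bc (X ↘ Spec (CommRingCat.of k)) πX) PX}
  {aY : AlgGrp.Action (Red.bc (Y ↘ Spec (CommRingCat.of k)) πY) PY}
  {pX : Spec (CommRingCat.of k) ⟶ PX.left} {pY : Spec (CommRingCat.of k) ⟶ PY.left}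

variable (hf) in
include hf hx hy hfx in
/-- A section of a pull-back can be moved to pass through the marked point. -/
theorem exists_pointed_section {C : Over (Spec (CommRingCat.of k))} [GrpObj C] {U : Over Y}
    {c : AlgGrp.Action (Red.bc (Y ↘ Spec (CommRingCat.of k)) C) U}
    (hc : NonAbH1.IsPseudoTorsorSch c) {u : Spec (CommRingCat.of k) ⟶ U.left} (hu : u ≫ U.hom = y)
    (hs : NonAbH1.HasSectionOver U f) :
    ∃ σ : 𝟙_ (Over X) ⟶ Red.bc f U, x ≫ σ.left = bcPt f u x (hu.trans hfx.symm) := by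
  obtain ⟨s, hs⟩ := hs
  let sX : 𝟙_ (Over X) ⟶ Red.bc f U := BC.up f (Over.homMk s (by
    show s ≫ U.hom = 𝟙 X ≫ f
    rw [hs, Category.id_comp]))
  let I := 𝟙_ (Over (Spec (CommRingCat.of k)))
  let s₀ : atPt y I ⟶ U := Over.homMk (x ≫ s) (by
    show (x ≫ s) ≫ U.hom = 𝟙 _ ≫ y
    rw [Category.assoc, hs, hfx, Category.id_comp])
  obtain ⟨gy, hgy, -⟩ := TorsorSch.FibreProd.existsUnique_of_pseudo hc s₀ (tS hu I)
  obtain ⟨g, rfl⟩ := exists_upx hy gy
  let gX : 𝟙_ (Over X) ⟶ Red.bc (X ↘ Spec (CommRingCat.of k)) C := BC.up _ (toUnit _ ≫ g)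
  refine ⟨lift gX sX ≫ (bcAct f hf c).act, ?_⟩
  apply pullback.hom_ext
  · rw [pullback.lift_fst, Category.assoc, ← BC.down_left, AlgGrp.Action.lift_restrict_act,
      SekSuwaTors.down_bc_act]
    let r : atPt y I ⟶ (Over.map f).obj (𝟙_ (Over X)) := Over.homMk x (by
      show x ≫ 𝟙 X ≫ f = 𝟙 _ ≫ y
      rw [Category.id_comp, Category.id_comp, hfx])
    have e1 : r ≫ BC.down f (gX ≫ (ActBC.bcCompIso f (Y ↘ Spec (CommRingCat.of k)) C hf).inv) = upx hy g := by
      refine BC.down_injective (Over.OverMorphism.ext ?_)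
      rw [upx, BC.down_up, BC.down_left, Over.comp_left, BC.down_left]
      have h1 : (ActBC.bcCompIso f (Y ↘ Spec (CommRingCat.of k)) C hf).inv.left ≫
          pullback.fst _ _ ≫ pullback.fst _ _ = pullback.fst C.hom (X ↘ Spec (CommRingCat.of k)) := by
        rw [← ActBC.bcCompIso_hom_left_fst f (Y ↘ Spec (CommRingCat.of k)) C hf, ← Category.assoc, ← Over.comp_left,
          Iso.inv_hom_id]
        exact Category.id_comp _
      rw [Over.comp_left]
      simp only [Category.assoc]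
      show x ≫ gX.left ≫ _ = g.left
      rw [h1, ← BC.down_left, BC.down_up, Over.comp_left]
      show x ≫ (𝟙 X ≫ (X ↘ Spec (CommRingCat.of k))) ≫ g.left = g.left
      rw [Category.id_comp, reassoc_of% hx]
    have e2 : r ≫ BC.down f sX = s₀ := by
      rw [BC.down_up]
      exact Over.OverMorphism.ext rfl
    have e := congrArg Over.Hom.left
      ((comp_lift_assoc r _ _ c.act).trans ((congrArg₂ (fun a b => lift a b ≫ c.act) e1 e2).trans hgy))
    exact e.trans (Category.id_comp u)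
  · rw [pullback.lift_snd, Category.assoc]
    exact (congrArg (x ≫ ·) (Over.w (lift gX sX ≫ (bcAct f hf c).act))).trans (Category.comp_id x)

include hx hy hfx in
/-- The induced homomorphism is trivial iff the Nori-reduced pointed torsors become trivial. -/
theorem eq_one_iff (hX : IsFGS x πX aX pX) (hY : IsFGS y πY aY pY) {φ : πX ⟶ πY}
    (hφ : IsInducedHom f hf aX pX aY pY φ) :
    φ = 1 ↔
      ∀ (H : Over (Spec (CommRingCat.of k))) [GrpObj H] [IsFinite H.hom] (U : Over Y)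
        (c : AlgGrp.Action (Red.bc (Y ↘ Spec (CommRingCat.of k)) H) U) (u : Spec (CommRingCat.of k) ⟶ U.left),
        NonAbH1.IsTorsorFor Scheme.fpqcPrecoverage c → u ≫ U.hom = y →
        IsNoriReduced Scheme.fpqcPrecoverage c → NonAbH1.HasSectionOver U f := by
  obtain ⟨_, -⟩ := id hφ
  have := isAffineHom_of_proFinite hX.1
  constructor
  · intro h1 H _ _ U c u hc hu _
    obtain ⟨ψ, _, h, hh, -⟩ := hY.2.2.2 H U c u hc hu
    obtain ⟨m, hm⟩ := exists_induced_comp hX.2.2.1 hφ hh (hu.trans hfx.symm)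
    obtain ⟨σ, hσ⟩ := exists_section_of_trivial hX.2.1 (by rw [h1, MonObj.one_comp]) hm
    refine ⟨σ ≫ pullback.fst U.hom f, ?_⟩
    rw [Category.assoc, pullback.condition, ← Category.assoc]
    exact (congrArg (· ≫ f) hσ).trans (Category.id_comp f)
  · intro hall
    obtain ⟨PY'⟩ := hY.1
    letI := PY'.cat
    refine PY'.isLimit.hom_ext fun i => ?_
    haveI := PY'.finite i
    letI := PY'.grp i
    haveI := PY'.isMonHom_π i
    show φ ≫ (show πY ⟶ PY'.D.obj i from PY'.π.app i) = 1 ≫ (show πY ⟶ PY'.D.obj i from PY'.π.app i)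
    rw [MonObj.one_comp]
    obtain ⟨C, _, _, q, inc, _, _, U, c, u, h, hqi, -, -, hc, hu, hred, hh⟩ :=
      exists_reduced_quot hy hY (show πY ⟶ PY'.D.obj i from PY'.π.app i)
    have := isMonHom_one (G := πX) (G' := C)
    obtain ⟨σ, hσ⟩ := exists_pointed_section hf hx hy hfx hc.1 hu (hall C U c u hc hu hred)
    obtain ⟨m, hm⟩ := exists_induced_comp hX.2.2.1 hφ hh (hu.trans hfx.symm)
    have htriv : IsPtTorsorHom aX pX (bcAct f hf c) (bcPt f u x (hu.trans hfx.symm)) (1 : πX ⟶ C)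
        (toUnit PX ≫ σ) := by
      refine isPtTorsorHom_mk (fun {Z} z w => ?_) ?_
      · rw [comp_map_one, comp_toUnit_assoc, comp_toUnit_assoc, GrpSch.act_one]
      · show pX ≫ (toUnit PX ≫ σ).left = _
        rw [Over.comp_left, ← Category.assoc]
        refine (congrArg (· ≫ σ.left) ?_).trans hσ
        exact hX.2.2.1
    obtain ⟨χ, _, fχ, -, huniq⟩ := hX.2.2.2 C (Red.bc f U) (bcAct f hf c) (bcPt f u x (hu.trans hfx.symm))
      (isTorsorFor_bcAct hc) (bcPt_hom _)
    have e : φ ≫ q = 1 := (huniq _ _ hm).1.trans (huniq _ _ htriv).1.symm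
    rw [← hqi, reassoc_of% e, MonObj.one_comp]

end Groth.Agent.Lib.NoriFGS
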